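import Cfsg.Agent.S2062

/-! `Aut(M₂₂)` is the duad stabiliser of `M₂₄` acting by conjugation (`conjD_bijective`); generators and relations
(`autM22`). -/

set_option autoImplicit false

namespace Cfsg.Agent.J4T
open Cfsg.Agent.Comp Cfsg.Agent.Golay Subgroup Cfsg.Spor

theorem card_autM22 : Nat.card (MulAut M22) = 887040 := by
  have := simple_M22
  have h : Function.Injective (MulAut.conj : M22 →* MulAut M22) := (MonoidHom.ker_eq_bot_iff _).1 <|
    (this.eq_bot_or_eq_top_of_normal _ inferInstance).resolve_right fun e => by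
      let : CommGroup M22 := { (inferInstance : Group M22) with
        mul_comm a b := mul_inv_eq_iff_eq_mul.1 (DFunLike.congr_fun (e.ge (mem_top a)) b) }
      have := IsSimpleGroup.prime_card (α := M22)
      rw [card_M22] at this
      exact absurd this (by norm_num)
  rw [card_eq_card_quotient_mul_card_subgroup (Inn M22), S2062.result, ← Nat.card_congr (MonoidHom.ofInjective h).toEquiv,
    card_M22]

/-- The normaliser of `M₂₂` in `M₂₄` (the duad stabiliser). -/
def D22 : Subgroup (Equiv.Perm GolayPt) := M24 ⊓ normalizer M22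

/-- Its action on `M₂₂` by conjugation. -/
def conjD : D22 →* MulAut M22 := M22.normalizerMonoidHom.comp (inclusion inf_le_right)

theorem conjD_apply (g : D22) (x : M22) : (conjD g x : Equiv.Perm GolayPt) = g * x * g⁻¹ := rfl

theorem M22_le_D22 : M22 ≤ D22 := le_inf M22_le le_normalizer

theorem mem_D22 {g : Equiv.Perm GolayPt} (h : g ∈ M24) (h0 : g (some 0) = none) (h1 : g none = some 0) : g ∈ D22 :=
  ⟨h, mem_normalizer_fintype fun x hx => ⟨⟨M24.mul_mem (M24.mul_mem h hx.1.1) (M24.inv_mem h), show g (x (g⁻¹ none)) = none by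
    simp [← h0, show x (some 0) = some 0 from hx.2]⟩, show g (x (g⁻¹ (some 0))) = some 0 by
    simp [← h1, show x none = none from hx.1.2]⟩⟩

theorem conjD_injective : Function.Injective conjD := (injective_iff_map_eq_one _).2 fun t ht => by
  have h {g} (hg : g ∈ M22) (x) : g (t.1 x) = t.1 (g x) :=
    DFunLike.congr_fun (mul_inv_eq_iff_eq_mul.1 (show t.1 * g * t.1⁻¹ = g from
      congrArg Subtype.val (DFunLike.congr_fun ht (⟨g, hg⟩ : M22)))).symm x
  obtain ⟨g, hg, e⟩ := codes22 (L := [971293462555780721902894817711640256]) (by decide +kernel) _ List.mem_cons_self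
  have h5 : some 5 ∈ P22 := by simp; decide
  have tr {x y} := (trans22.mono (j := 1) (by decide) (ncard_P22 ▸ by decide)).one (a := x) (b := y)
  have h1 : t.1 (some 5) = some 5 := by
    have e' (x) : g x = EG.dec (get24 971293462555780721902894817711640256 (EG.enc x)) :=
      ((congrArg EG.dec (e x)).trans (EG.dec_enc _)).symm
    have h2 := h hg (some 5)
    rw [e' (some 5), show EG.dec _ = some 5 by decide +kernel, e'] at h2
    obtain ⟨k, hk, e⟩ := tr h5 (show some 6 ∈ P22 by simp; decide)
    have h3 := h hk (some 5)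
    rw [show k (some 5) = some 6 from e] at h3
    have h4 : k (t.1 (some 5)) ≠ t.1 (some 5) := fun e => absurd (t.1.injective (h3.symm.trans e)) (by decide)
    rcases (by decide +kernel : ∀ x, EG.dec (get24 971293462555780721902894817711640256 (EG.enc x)) = x →
      x = none ∨ x = some 0 ∨ x = some 5) _ h2 with e | e | e
    exacts [absurd (e ▸ hk.1.2) h4, absurd (e ▸ hk.2) h4, e]
  have h2 := card_le_rig le_rfl [] (by simp) [(23, [13938692]), (0, [])] 8388606 (N := 1) one_ne_zero (by decide +kernel)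
  have := Finite.card_le_one_iff_subsingleton.1 h2
  refine Subtype.ext (Subtype.ext_iff.1 (this.elim ⟨t.1, t.2.1, fun x hx => ?_⟩ 1) :)
  obtain ⟨k, hk, rfl⟩ := tr h5 (show x ∈ P22 by
    simp only [Set.mem_sdiff, Set.mem_univ, Set.mem_singleton_iff, true_and]; revert x; decide +kernel)
  exact (h hk _).symm.trans (congrArg k h1)

/-- Codes of four generators of `D22`. -/
def gD : List ℕ := [980455069064188826397246713399236896, 966242086363949728268507842911213120,
  956824426837495324784614364002224768, 17263366317367848893628833290500439]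

theorem exists_gD : ∃ x : ℕ → D22, ∀ i, R24 (nthL one24 gD i) (x i) := by
  refine (grp24.exists_elts (L := gD) (K := D22) ?_).elim fun x h => ⟨fun i => ⟨x i, h.1 i⟩, h.2⟩
  intro c hc
  rcases List.mem_append.1 (show c ∈ gD.take 3 ++ [17263366317367848893628833290500439] from hc) with hc | hc
  · exact (codes22 (by decide +kernel) c hc).imp fun g h => ⟨M22_le_D22 h.1, h.2⟩
  · obtain ⟨g, hg, e⟩ := codes24 (by decide +kernel) c hc
    obtain rfl := List.mem_singleton.1 hc
    exact ⟨g, mem_D22 hg ((e.smul_dec (i := 0) (by decide)).trans (by decide +kernel))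
      ((e.smul_dec (i := 23) (by decide)).trans (by decide +kernel)), e⟩

theorem map_gD {x : ℕ → D22} (h : ∀ i, R24 (nthL one24 gD i) (x i)) :
    (closure {x 0, x 1, x 2, x 3}).map conjD = ⊤ := by
  refine eq_top_of_le_card _ ?_
  rw [card_map_of_injective conjD_injective, card_autM22, ← card_map_of_injective D22.subtype_injective]
  refine le_trans (by decide +kernel) (chainP_le_card (B := [0, 1, 2, 3, 5, 4]) (by decide +kernel) (grp24.slpW
    [[1, 3, 7, 1, 4, 1, 7], [1, 1, 7, 3, 1, 7, 0, 6, 6, 9], [9, 9, 1, 1, 7, 11, 7], [11, 11, 3, 11, 11, 12, 3, 9, 1, 5],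
    [13, 13, 15, 13, 13, 11, 9, 15, 13, 5, 1, 7, 0, 12, 6, 13, 0, 7, 7, 11, 7, 7],
    [13, 15, 15, 9, 17, 3, 11, 9, 0, 13, 17, 3, 5, 9, 3, 10],
    [13, 19, 13, 15, 11, 13, 15, 1, 19, 7, 13, 16, 6, 9, 9, 18, 15, 16, 12, 18],
    [13, 13, 13, 19, 11, 9, 13, 1, 13, 21, 5, 11, 17, 21, 11, 2]] (L := gD) ?_) 30)
  simp only [gD, CodesIn, List.forall_mem_cons, List.not_mem_nil, IsEmpty.forall_iff, implies_true, and_true]
  exact ⟨⟨_, ⟨x 0, subset_closure (by simp), rfl⟩, h 0⟩, ⟨_, ⟨x 1, subset_closure (by simp), rfl⟩, h 1⟩,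
    ⟨_, ⟨x 2, subset_closure (by simp), rfl⟩, h 2⟩, ⟨_, ⟨x 3, subset_closure (by simp), rfl⟩, h 3⟩⟩

theorem conjD_bijective : Function.Bijective conjD := ⟨conjD_injective, exists_gD.elim fun _ h =>
  MonoidHom.range_eq_top.1 (top_unique ((map_gD h).ge.trans (map_le_range _ _)))⟩

theorem card_D22 : Nat.card D22 = 887040 := (Nat.card_eq_of_bijective _ conjD_bijective).trans card_autM22

theorem autM22 : ∃ a b c d : MulAut M22, closure {a, b, c, d} = ⊤ ∧ orderOf a = 11 ∧ b ^ 5 = 1 ∧ b * a * b⁻¹ = a ^ 4 ∧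
    c * b * c⁻¹ = b ^ 2 ∧ c ^ 4 = 1 ∧ (a * c) ^ 5 = 1 ∧ d * a * d⁻¹ = a⁻¹ ∧ d * b = b * d ∧ (c * d) ^ 4 = 1 ∧
    Nat.card (MulAut M22) = 887040 := by
  obtain ⟨x, h⟩ := exists_gD
  have key (u v : List ℕ) (e : evalW mul24 inv24 one24 gD u = evalW mul24 inv24 one24 gD v) :
      wordG (fun i => conjD (x i)) u = wordG (fun i => conjD (x i)) v := by
    rw [← map_wordG, ← map_wordG]
    exact congrArg _ (Subtype.ext ((map_wordG D22.subtype x u).trans
      (((grp24.evalW h u).unique (e ▸ grp24.evalW h v)).trans (map_wordG D22.subtype x v).symm)))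
  have : Fact (Nat.Prime 11) := ⟨by decide⟩
  refine ⟨conjD (x 0), conjD (x 1), conjD (x 2), conjD (x 3), by
    simpa [MonoidHom.map_closure, Set.image_insert_eq] using map_gD h, orderOf_eq_prime ?_ fun e => (h 0).ne_of_get_ne grp24.one (i := 1) (by decide) (by decide +kernel)
      (congrArg Subtype.val (conjD_injective (e.trans (map_one _).symm))), ?_, ?_, ?_, ?_, ?_, ?_, ?_, ?_, card_autM22⟩
  · simpa [letterG, pow_succ'] using key (.replicate 11 0) [] (by decide +kernel)
  · simpa [letterG, pow_succ'] using key (.replicate 5 2) [] (by decide +kernel)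
  · simpa [letterG, pow_succ', mul_assoc] using key [2, 0, 3] [0, 0, 0, 0] (by decide +kernel)
  · simpa [letterG, pow_succ', mul_assoc] using key [4, 2, 5] [2, 2] (by decide +kernel)
  · simpa [letterG, pow_succ'] using key (.replicate 4 4) [] (by decide +kernel)
  · simpa [letterG, pow_succ', mul_assoc] using key [0, 4, 0, 4, 0, 4, 0, 4, 0, 4] [] (by decide +kernel)
  · simpa [letterG, mul_assoc] using key [6, 0, 7] [1] (by decide +kernel)
  · simpa [letterG] using key [6, 2] [2, 6] (by decide +kernel)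
  · simpa [letterG, pow_succ', mul_assoc] using key [4, 6, 4, 6, 4, 6, 4, 6] [] (by decide +kernel)

end Cfsg.Agent.J4T
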