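import Cfsg.Agent.J4T.Frame
import Cfsg.Agent.J4T.A1b
import Cfsg.Agent.J4T.AutM22
import Cfsg.Agent.Comp.Model

/-! Step A1: `Hyp z P` gives a frame with `St z p θ μ` (`Hyp.exists_St`). -/

set_option autoImplicit false

namespace Cfsg.Agent.J4T
open Cfsg.Agent.Comp Subgroup LES

variable {G : Type*} [Group G] [Finite G] {z p : G} {P : Subgroup G}

theorem Fr.μ_facts {θ : ℕ → G} (F : Fr z p θ) {μ : centralizer ({z} : Set G) →* MulAut (XV 12)}
    (hμ : ∀ h v, ∃ b < 2, h.1 * θ v.val * h.1⁻¹ = θ (μ h v).val * z ^ b)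
    (core : ∀ g, g ∈ twoCoreOfCentralizer z ↔ ∃ x < 8192, θ x = g) (L : LE (twoCoreOfCentralizer z) z) :
    (∀ h, μ h ∈ OQ) ∧ (∀ h, μ h = 1 ↔ h.1 ∈ twoCoreOfCentralizer z) ∧
      μ ⟨p, mem_centralizer_singleton_iff.2 F.pz.eq⟩ = wA := by
  have l : ∀ v : XV 12, v.val < 8192 := fun v => v.lt.trans (by norm_num)
  have hz : ∀ (h : centralizer ({z} : Set G)) b y, h.1 * (y * z ^ b) * h.1⁻¹ = h.1 * y * h.1⁻¹ * z ^ b :=
    fun h b y => by
      have : Commute h.1 z := mem_centralizer_singleton_iff.1 h.2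
      rw [mul_assoc (h.1 * y), ((this.pow_right b).inv_left).eq]; group
  refine ⟨fun h v => ?_, fun h => ⟨fun e => ?_, fun e => ?_⟩, ?_⟩
  · obtain ⟨b, hb, e⟩ := hμ h v
    have e2 : h.1 * (θ v.val * θ v.val) * h.1⁻¹ = h.1 * θ v.val * h.1⁻¹ * (h.1 * θ v.val * h.1⁻¹) := by group
    rw [e, mul_assoc (θ _), ← mul_assoc (z ^ b), ← ((F.cz (l _)).pow_right b).eq, mul_assoc (θ _), F.zbb, mul_one,
      F.sq (l _), F.sq (l _), ← one_mul (z ^ _), hz] at e2
    exact (F.cancel (u := 0) (v := 0) (by norm_num) (by norm_num) (bt_lt _ _) (bt_lt _ _)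
      (by simpa [F.θ0] using e2.symm)).2
  · have hp : IsPGroup 2 μ.ker := fun ⟨h, hh⟩ => ⟨2, Subtype.ext (Subtype.ext ?_)⟩
    · exact ⟨h, Solv.le_pCore hp e, rfl⟩
    have k0 : ∀ v < 4096, h.1 * h.1 * θ v * (h.1 * h.1)⁻¹ = θ v := fun v hv => by
      obtain ⟨b, hb, e⟩ := hμ h ⟨v, hv⟩
      rw [MonoidHom.mem_ker.1 hh] at e
      have e' : h.1 * θ v * h.1⁻¹ = θ v * z ^ b := e
      have : h.1 * h.1 * θ v * (h.1 * h.1)⁻¹ = h.1 * (h.1 * θ v * h.1⁻¹) * h.1⁻¹ := by group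
      rw [this, e', hz, e', mul_assoc, F.zbb, mul_one]
    have h2 := L.cQ (h.1 * h.1) fun y hy => by
      obtain ⟨x, hx, rfl⟩ := (core y).1 hy
      rcases split_z hx with h' | ⟨v, h', rfl⟩
      · exact cj_eq_iff_comm.1 (k0 x h')
      · rw [F.θz (by omega)]
        have : Commute h.1 z := mem_centralizer_singleton_iff.1 h.2
        exact (cj_eq_iff_comm.1 (k0 v h')).mul_right (this.mul_left this)
    have : h.1 ^ 2 ^ 2 = h.1 * h.1 * (h.1 * h.1) := by
      rw [show 2 ^ 2 = 4 from rfl]; simp only [pow_succ, pow_zero, one_mul, mul_assoc]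
    show h.1 ^ 2 ^ 2 = 1
    rcases h2 with e | e <;> rw [this, e]
    exacts [mul_one 1, F.zz]
  · obtain ⟨x, hx, e⟩ := (core _).1 e
    ext v
    obtain ⟨b, hb, e'⟩ := hμ h v
    rw [← e, F.conjE hx (l _), F.θb (l _) (bf_lt _ _)] at e'
    exact (F.cancel v.lt (XV.lt _) (bf_lt _ _) hb e').1.symm
  · ext v
    obtain ⟨b, hb, e'⟩ := hμ ⟨p, mem_centralizer_singleton_iff.2 F.pz.eq⟩ v
    rw [F.pθ' v.lt, ← mul_one (θ _), ← pow_zero z] at e'
    rw [IR_wA.1.2]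
    exact (F.cancel (app_lt _ _) (XV.lt _) two_pos hb e').1.symm

theorem Hyp.exists_St (h : Hyp z P) : ∃ p θ μ, St z p θ μ ∧ zpowers p = P := by
  obtain ⟨N, EN, NH, HN, cN, ⟨_, ⟨π0⟩⟩, PN⟩ := h.exN
  obtain ⟨p, op, rfl⟩ := exists_zpowers_of_prime Nat.prime_three h.cardP
  have EH : twoCoreOfCentralizer z ≤ centralizer {z} := map_subtype_le _
  have zE : z ∈ twoCoreOfCentralizer z := (h.fpf.ge (mem_zpowers z)).1
  have cent : centralizer (twoCoreOfCentralizer z : Set G) ≤ twoCoreOfCentralizer z := fun g hg =>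
    h.cent ⟨mem_centralizer_singleton_iff.2 (hg z zE).symm, hg⟩
  have L : LE (twoCoreOfCentralizer z) z := LE.of_core h.ord h.ext cent
  have pH : p ∈ centralizer ({z} : Set G) := NH (PN (mem_zpowers p))
  have pz : Commute p z := mem_centralizer_singleton_iff.1 pH
  have cE : Nat.card (twoCoreOfCentralizer z) = 8192 := h.card
  obtain ⟨θ, F, core⟩ := exists_Fr L.toES op pz (fun x hx => L.conj_mem pz hx) (fun x hx hc =>
    (mem_zp h.ord).1 (h.fpf.le ⟨hx, by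
      rw [centralizer_zpowers]; exact mem_centralizer_singleton_iff.2 hc.eq.symm⟩)) cE
  obtain ⟨μ, hμ⟩ := F.exists_μ fun g x hx =>
    (core _).1 (L.conj_mem (mem_centralizer_singleton_iff.1 g.2) ((core _).2 ⟨x, hx, rfl⟩))
  obtain ⟨hO, ker, μp⟩ := F.μ_facts hμ core L
  have N_eq : twoCoreOfCentralizer z ⊔ zpowers p = N := by
    refine eq_of_le_of_card_ge (sup_le EN PN) (Nat.le_of_dvd Nat.card_pos ?_)
    rw [cN, cE]
    exact Nat.Coprime.mul_dvd_of_dvd_of_dvd (by norm_num) (h.cardP ▸ card_dvd_of_le le_sup_right)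
      (cE ▸ card_dvd_of_le le_sup_left)
  have hN : ∀ n : centralizer ({z} : Set G), n.1 ∈ N ↔ μ n ∈ zpowers wA := fun n => by
    refine ⟨fun hn => ?_, fun ⟨j, hj⟩ => ?_⟩
    · have : N ≤ ((zpowers wA).comap μ).map (Subgroup.subtype _) := N_eq ▸ sup_le
        (fun x hx => ⟨⟨x, EH hx⟩, by simp [(ker ⟨x, EH hx⟩).2 hx], rfl⟩)
        (zpowers_le.2 ⟨⟨p, pH⟩, by simp [μp], rfl⟩)
      obtain ⟨x, hx, e⟩ := this hn
      rwa [← Subtype.ext e]
    · have := EN ((ker (n * (⟨p, pH⟩ ^ j)⁻¹)).1 (by rw [map_mul, map_inv, map_zpow, μp, ← hj]; simp))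
      simpa using mul_mem this (zpow_mem (PN (mem_zpowers p)) j)
  let π := π0.toMonoidHom.comp (QuotientGroup.mk' (N.subgroupOf (centralizer ({z} : Set G))))
  have πs : Function.Surjective π := π0.surjective.comp (QuotientGroup.mk'_surjective _)
  have πk : ∀ n, π n = 1 ↔ μ n ∈ zpowers wA := fun n => by
    rw [← hN]; simp [π, mem_subgroupOf]
  obtain ⟨a, b, c, d, top, oa, r2, r3, r4, r5, r6, r7, r8, r9, cA⟩ := autM22
  obtain ⟨a, rfl⟩ := πs a; obtain ⟨b, rfl⟩ := πs b; obtain ⟨c, rfl⟩ := πs c; obtain ⟨d, rfl⟩ := πs d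
  have nw : ∀ x, μ x * wA * (μ x)⁻¹ ∈ zpowers wA := fun x => by
    rw [← μp, ← map_inv, ← map_mul, ← map_mul, μp, ← hN]
    exact (mem_normalizer_iff.1 (HN x.2) p).1 (PN (mem_zpowers p))
  obtain ⟨u, uO, uw, hu⟩ := a1b (a := μ a) (b := μ b) (c := μ c) (d := μ d)
    (fun x hx => by simp only [List.mem_cons, List.not_mem_nil, or_false] at hx
                    rcases hx with rfl | rfl | rfl | rfl <;> exact ⟨hO _, nw _⟩)
    (fun e => by rw [(πk a).2 e] at oa; simp at oa)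
    (by rw [← map_pow, ← πk, map_pow, ← oa, pow_orderOf_eq_one])
    (by rw [← map_pow, ← πk, map_pow, r2])
    (by rw [← map_pow, ← map_inv, ← map_inv, ← map_mul, ← map_mul, ← map_mul, ← πk, map_mul, map_mul, map_mul,
      map_inv, map_inv, map_pow, r3, mul_inv_cancel])
    (by rw [← map_pow, ← map_inv, ← map_inv, ← map_mul, ← map_mul, ← map_mul, ← πk, map_mul, map_mul, map_mul,
      map_inv, map_inv, map_pow, r4, mul_inv_cancel])
    (by rw [← map_pow, ← πk, map_pow, r5])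
    (by rw [← map_mul, ← map_pow, ← πk, map_pow, map_mul, r6])
    (by rw [← map_inv, ← map_mul, ← map_mul, ← map_mul, ← πk, map_mul, map_mul, map_mul, map_inv, r7, inv_mul_cancel])
    (by rw [← map_inv, ← map_inv, ← map_mul, ← map_mul, ← map_mul, ← πk, map_mul, map_mul, map_mul,
      map_inv, map_inv, r8, mul_inv_cancel_right, mul_inv_cancel])
    (by rw [← map_mul, ← map_pow, ← πk, map_pow, map_mul, r9])
  obtain ⟨cu, hcu⟩ := exists_IR uO
  obtain ⟨θ', F', hθ', core'⟩ := F.change hcu uw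
  let μ' := (MulAut.conj u⁻¹).toMonoidHom.comp μ
  have μ'_eq : ∀ x, μ' x = u⁻¹ * μ x * u := fun x => by simp [μ']
  have μ'p : μ' ⟨p, pH⟩ = wA := by rw [μ'_eq, μp, mul_assoc, ← uw.eq]; simp
  have hN' : ∀ n : centralizer ({z} : Set G), n.1 ∈ N → μ' n ∈ zpowers wA := fun n hn => by
    obtain ⟨j, hj⟩ := (hN n).1 hn
    rw [μ'_eq, ← hj, mul_assoc, ← (uw.zpow_right j).eq]; simp
  have rng : μ'.range = Xs := by
    rw [← hu]
    refine le_antisymm ?_ ((closure_le _).2 ?_)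
    · rintro _ ⟨x, rfl⟩
      have : π x ∈ (closure {a, b, c, d}).map π := by
        rw [MonoidHom.map_closure]; simp [Set.image_insert_eq, top]
      obtain ⟨y, hy, e⟩ := this
      have h1 : μ' y ∈ (closure {a, b, c, d}).map μ' := ⟨y, hy, rfl⟩
      rw [MonoidHom.map_closure] at h1
      have h2 := hN' (x * y⁻¹) ((hN _).2 ((πk _).1 (by simp [e])))
      have h3 := mul_mem (zpowers_le.2 (subset_closure (by simp)) h2) (closure_mono (k :=
        {u⁻¹ * μ a * u, u⁻¹ * μ b * u, u⁻¹ * μ c * u, u⁻¹ * μ d * u, wA})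
        (by simp [Set.image_insert_eq, μ'_eq, Set.insert_subset_iff]) h1)
      simpa using h3
    · simp only [Set.insert_subset_iff, Set.singleton_subset_iff, ← μ'_eq, ← μ'p]
      exact ⟨⟨_, rfl⟩, ⟨_, rfl⟩, ⟨_, rfl⟩, ⟨_, rfl⟩, ⟨_, rfl⟩⟩
  refine ⟨p, θ', μ', ⟨F', fun g => (core g).trans (core' g).symm, cent, fun g c hc x hx => ?_, fun g => ?_, rng, ?_,
    fun g hg => ?_⟩, rfl⟩
  · have gz : Commute g.1 z := mem_centralizer_singleton_iff.1 g.2
    have hz : ∀ b y, g.1 * (y * z ^ b) * g.1⁻¹ = g.1 * y * g.1⁻¹ * z ^ b := fun b y => by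
      rw [mul_assoc (g.1 * y), ((gz.pow_right b).inv_left).eq]; group
    have key : ∀ v < 4096, ∃ b < 2, g.1 * θ' v * g.1⁻¹ = θ' (app c v) * z ^ b := fun v hv => by
      obtain ⟨b, hb, e⟩ := hμ g (u ⟨v, hv⟩)
      have e1 : (μ g (u ⟨v, hv⟩)).val = app cu (app c v) := by
        rw [← hc.2 ⟨v, hv⟩, ← hcu.1.2, μ'_eq]; simp
      rw [e1, hcu.1.2] at e
      refine ⟨_, xlt2 (xlt2 (ell_lt cu (app c v)) hb) (ell_lt cu v), ?_⟩
      rw [hθ' v hv, hθ' _ (app_lt _ _), hz, e, F.zxor (xlt2 (ell_lt _ _) hb) (ell_lt _ _), F.zxor (ell_lt _ _) hb]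
      simp only [mul_assoc]
      rw [← mul_assoc (z ^ ell _ _), F.zbb, one_mul]
    have key2 : ∃ b < 2, g.1 * θ' x * g.1⁻¹ = θ' (app c x) * z ^ b := by
      rcases split_z hx with h | ⟨v, h, rfl⟩
      · exact key x h
      · obtain ⟨b, hb, e⟩ := key v h
        refine ⟨_, xlt2 hb one_lt_two, ?_⟩
        have := hz 1 (θ' v)
        rw [pow_one] at this
        rw [F'.θz (by omega), this, e, app_xor, app_z, Nat.xor_zero, F.zxor hb one_lt_two, mul_assoc, pow_one]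
    obtain ⟨b, hb, e⟩ := key2
    interval_cases b
    · left; simpa using e
    · right; rw [F'.θz (app_lt' _ _)]; simpa using e
  · rw [← ker, μ'_eq]; simp [mul_eq_one_iff_eq_inv, inv_mul_eq_iff_eq_mul]
  · rw [← card_mul_card_ker πs, cA, show π.ker = N.subgroupOf _ by ext n; rw [MonoidHom.mem_ker, πk, ← hN]; rfl,
      Nat.card_congr (subgroupOfEquivOfLe NH).toEquiv, cN, cE]
  · obtain ⟨x, rfl⟩ := rng ▸ hg
    obtain ⟨n, hn, e⟩ := exists_conj_le_sylow (K := N) (P := zpowers p) (Q := zpowers (x.1 * p * x.1⁻¹)) (k := 1)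
      Nat.prime_three PN (zpowers_le.2 ((mem_normalizer_iff.1 (HN x.2) p).1 (PN (mem_zpowers p)))) h.cardP
      (cN.trans (by rw [cE])) (by norm_num) (isPGroup_zpowers (j := 1) (by rw [conj_pow, pow_one, ← op]; simp))
    obtain ⟨j, hj⟩ := hN' ⟨n, NH hn⟩ hn
    refine ⟨(⟨p, pH⟩ ^ j)⁻¹ * (⟨n, NH hn⟩ * x), mul_mem (le_normalizer (inv_mem (zpow_mem (mem_zpowers p) j)))
      (mem_normalizer_zpowers (by simpa [mul_assoc] using e _ (mem_zpowers _))), ?_⟩
    rw [map_mul, map_mul, map_inv, map_zpow, μ'p, ← hj]; simp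

end Cfsg.Agent.J4T
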