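import Cfsg.Agent.Spor.J4E

/-! helper23: `V = 2^11` in `J4`. -/

set_option maxRecDepth 100000
set_option exponentiation.threshold 100000

namespace Cfsg.Agent.J4T

open Cfsg.Agent.Spor C

theorem v0_mem : v0 ∈ V := v0_V

theorem tv0_mem : tv0 ∈ V := tv0_V

theorem V_elem : IsElementaryAbelian 2 V :=
  ⟨⟨⟨fun a b => Subtype.ext (V_comm a.2 b.2)⟩⟩, fun a ha => by rw [pow_two, V_sq ha]⟩

theorem V0_elem : IsElementaryAbelian 2 V0 := by
  refine ⟨⟨⟨?_⟩⟩, ?_⟩
  · rintro ⟨_, a, ha, rfl⟩ ⟨_, b, hb, rfl⟩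
    exact Subtype.ext (show ι a * ι b = ι b * ι a by rw [← map_mul, V_comm ha hb, map_mul])
  · rintro _ ⟨a, ha, rfl⟩
    rw [← map_pow, pow_two, V_sq ha, map_one]

theorem card_V : Nat.card V = 2 ^ 11 := by
  rw [Nat.card_eq_of_bijective (fun v : V => (⟨co v, co_lt v⟩ : Fin 2048))
    ⟨fun a b e => Subtype.ext (ext_V a.2 b.2 (congrArg Fin.val e)), fun n =>
      let ⟨v, hv, e⟩ := exists_vec n.2; ⟨⟨v, hv⟩, Fin.ext e⟩⟩]
  simp

theorem card_V0 : Nat.card V0 = 2 ^ 11 := (Subgroup.card_map_of_injective ι_inj).trans card_V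

theorem C.index_cent {v : K} (hv : v ∈ V) {b n : ℕ} (prog : List ℕ) (hb : icr (co v) = b)
    (hc : seq (orbRun J4C.nets (sing (List.range 4)) prog (Nat.shiftLeft 1 b)) (fun A => andB (A.testBit b)
      (andB (chkClosed J4C.nets (sing (List.range 4)) A) (chkPop 11 A n))) = true) :
    (Subgroup.centralizer {v}).index = n := by
  simp only [seq_eq, andB_eq_true] at hc
  have hb' : b < 2048 := hb ▸ icr_lt (co_lt v)
  have hs : IsStab J4C.ψ (Subgroup.centralizer {v}) b := fun k => by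
    rw [Subgroup.mem_centralizer_singleton_iff, comm_iff hv, lm, hb, ← crd_icr (co_lt v), hb]
    exact ⟨crd_inj (J4C.rX.lt _ hb') hb', congrArg crd⟩
  rw [← Subgroup.relIndex_top_right, hs.relIndex, J4C.rX.map_top, orbit_eq_bset J4C.rX.ok
    ((orbSub_base _ b).run J4C.rX.ok (prog := prog) (by rw [chkOrb, Nat.beq_eq]; exact Nat.and_self _)) hc.1 hc.2.1,
    ncard_of_chkPop hc.2.2]

theorem index_B0 : B0.index = 1771 :=
  index_cent v0_V (b := 420) [1, 0, 1, 0, 1, 0, 1, 0, 1, 0, 1, 0, 1, 0, 1, 0, 1, 0, 1, 0, 1, 0, 1, 0, 1, 0, 1, 0, 1, 0, 1, 0, 1, 0, 1, 1, 0, 1, 1, 0] (by rw [co_v0]; decide +kernel) (by decide +kernel)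

theorem card_B0 : Nat.card B0 = 283115520 := by
  have := B0.card_mul_index
  rw [index_B0, J4H.card] at this
  omega

theorem V_le_B0 : V ≤ B0 := fun _ hv => Subgroup.mem_centralizer_singleton_iff.2 (V_comm hv v0_V)

theorem V0_le_H0 : V0 ≤ H0 := by
  rintro _ ⟨v, hv, rfl⟩; exact mem_H0.2 (V_le_B0 hv)

theorem V_orb : ∀ v ∈ V, v = 1 ∨ IsConj v0 v ∨ IsConj tv0 v := fun v hv => by
  rcases orbs (co_lt v) with h | ⟨k, h⟩ | ⟨k, h⟩
  · exact .inl (eq_one hv h)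
  · exact .inr (.inl (isConj_iff.2 ⟨k, ext_V (V_normal.conj_mem _ v0_V k) hv (by rw [co_conj k v0_V, co_v0, h])⟩))
  · exact .inr (.inr (isConj_iff.2 ⟨k, ext_V (V_normal.conj_mem _ tv0_V k) hv (by rw [co_conj k tv0_V, co_tv0, h])⟩))

theorem C.exκ : ∃ κ : J4K.G →* K, ∀ x < 3, κ (J4K.g x) = renG J4H.g (sing (List.range 3)) x :=
  J4K.lifts _ _ (renG_rels (g := J4H.g) (ren := sing (List.range 3))
    (J4H.invOk.rels J4H.hg (by decide +kernel) (by decide +kernel)))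

/-- The complement `M24`. -/
noncomputable def C.κ : J4K.G →* K := exκ.choose

theorem C.κ_g {x : ℕ} (hx : x < 3) : κ (J4K.g x) = J4L.yK x := by
  rw [show κ (J4K.g x) = _ from exκ.choose_spec x hx]
  interval_cases x <;> rfl

theorem C.κ_inj : Function.Injective κ :=
  have := J4A.simple
  injective_of_simple κ (x := J4K.g 0) (by
    rw [κ_g (by decide), ← ev_one J4L.yK]; exact J4L.paK.ne_one 1 (by decide) (by decide +kernel))

theorem C.co_κ (m : J4K.G) : co (κ m) = 0 := by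
  have : m ∈ ((MulAction.stabilizer (Equiv.Perm ℕ) 0).comap J4H.φ).comap κ :=
    genL_le (fun x hx => show J4H.φ (κ (J4K.g x)) 0 = 0 by
      have hx' := List.mem_range.1 hx
      rw [κ_g hx', J4L.paK.app x 0 (by decide)]
      interval_cases x <;> decide +kernel) (J4K.rep.top.ge (Subgroup.mem_top m))
  rw [co, show J4H.φ (κ m) 0 = 0 from this, crd_zero]

theorem C.compl : V.IsComplement' κ.range :=
  Subgroup.isComplement'_of_card_mul_and_disjoint (by
    rw [card_V, ← Nat.card_congr (MonoidHom.ofInjective κ_inj).toEquiv, J4K.card, J4H.card]; rfl)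
    (Subgroup.disjoint_def.2 (by rintro _ hv ⟨m, rfl⟩; exact eq_one hv (co_κ m)))

theorem V_compl : ∃ M : Subgroup K, V.IsComplement' M ∧ Nonempty (M ≃* Cfsg.M24) :=
  ⟨_, compl, J4A.equiv.elim fun e => ⟨(MonoidHom.ofInjective κ_inj).symm.trans e.symm⟩⟩

theorem V_quot : Nonempty (K ⧸ V ≃* Cfsg.M24) :=
  let ⟨_, h, ⟨e⟩⟩ := V_compl
  ⟨h.symm.QuotientMulEquiv.trans e⟩

theorem C.mem_V_of_comm {k : K} (h : ∀ v ∈ V, k * v = v * k) : k ∈ V := mem_V.2 fun n hn => by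
  obtain ⟨v, hv, rfl⟩ := exists_vec hn
  exact (comm_iff hv).1 (h v hv)

theorem cent_V : Subgroup.centralizer (V : Set K) = V :=
  le_antisymm (fun _ h => mem_V_of_comm fun v hv => (h v hv).symm) fun _ hv _ hw => V_comm hw hv

theorem cent_t0 : Subgroup.centralizer {t0} ≤ N0 := J4E.cent

theorem C.index_tv0 : (Subgroup.centralizer {tv0}).index = 276 :=
  index_cent tv0_V (b := 36) [0, 1, 0, 1, 0, 1, 0, 1, 0, 1, 0, 1, 0, 1, 0, 1, 0, 1, 0, 1, 0, 1, 0, 1, 0, 1, 0, 1] (by rw [co_tv0]; decide +kernel) (by decide +kernel)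

theorem card_cent_tv0 : Nat.card (Subgroup.centralizer {tv0}) = 2 ^ 11 * 887040 := by
  have := (Subgroup.centralizer {tv0}).card_mul_index
  rw [index_tv0, J4H.card] at this
  omega

theorem cent_V0 : Subgroup.centralizer (V0 : Set Cfsg.Spor.J4) = V0 := by
  refine le_antisymm (fun g h => ?_) fun a ha b hb => congrArg Subtype.val (V0_elem.1.1.1 ⟨b, hb⟩ ⟨a, ha⟩)
  obtain ⟨k, rfl⟩ := cent_t0 (Subgroup.mem_centralizer_singleton_iff.2 (h t0 ⟨_, tv0_V, rfl⟩).symm)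
  exact ⟨k, mem_V_of_comm fun v hv => ι_inj (by rw [map_mul, map_mul, h _ ⟨v, hv, rfl⟩]), rfl⟩

theorem norm_V0 : Subgroup.normalizer (V0 : Set Cfsg.Spor.J4) = N0 := by
  have h1 : N0 ≤ Subgroup.normalizer (V0 : Set Cfsg.Spor.J4) := by
    rintro _ ⟨k, rfl⟩
    refine Subgroup.mem_normalizer_fintype ?_
    rintro _ ⟨v, hv, rfl⟩
    exact ⟨_, V_normal.conj_mem v hv k, by simp⟩
  refine (h1.eq_or_lt.resolve_right fun h => ?_).symm
  have h2 := Subgroup.normalizer_eq_top_iff.1 (J4G.main.2.2.2.2.2.1.2 _ h)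
  have h3 := card_V0
  rw [J4G.main.2.2.2.2.2.2 V0 h2 (Subgroup.map_le_range _ _), Subgroup.card_bot] at h3
  exact absurd h3 (by decide)

theorem card_H0 : Nat.card H0 = 2 ^ 13 * 3 * 887040 := by
  obtain ⟨e⟩ := Ct.cent_congr (MulAut.conj (ι cu)⁻¹) (J4C.Y 0)
  obtain ⟨Q, N, M, -, -, -, h1, -, -, h2, h3, _, h4⟩ := J4C.struct
  have h5 := Subgroup.card_eq_card_quotient_mul_card_subgroup (N.subgroupOf M)
  rw [h4.2, Nat.card_congr (Subgroup.subgroupOfEquivOfLe h1).toEquiv, h2] at h5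
  rw [H0, ← Y0, Y, ← Nat.card_congr e.toEquiv, ← M.card_mul_index, h3, h5]
  decide

theorem card_cent_t0 : Nat.card (Subgroup.centralizer {t0}) = 2 ^ 11 * 887040 := by
  rw [← card_cent_tv0, ← Subgroup.card_map_of_injective ι_inj]
  congr 2
  ext g
  refine ⟨fun h => ?_, ?_⟩
  · obtain ⟨k, rfl⟩ := cent_t0 h
    exact ⟨k, Subgroup.mem_centralizer_singleton_iff.2 (ι_inj (by
      rw [map_mul, map_mul]; exact Subgroup.mem_centralizer_singleton_iff.1 h)), rfl⟩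
  · rintro ⟨k, h, rfl⟩
    exact Subgroup.mem_centralizer_singleton_iff.2 (by
      rw [t0, ← map_mul, Subgroup.mem_centralizer_singleton_iff.1 h, map_mul])

theorem not_conj_z0_t0 : ¬ IsConj z0 t0 := fun h => by
  obtain ⟨c, h⟩ := isConj_iff.1 h
  obtain ⟨e⟩ := Ct.cent_congr (MulAut.conj c) z0
  have := Nat.card_congr e.toEquiv
  rw [MulAut.conj_apply, h, card_cent_t0] at this
  exact absurd (card_H0.symm.trans this) (by decide)

end Cfsg.Agent.J4T
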