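import Cfsg.Agent.J4T.Data
import Cfsg.Prelude.Def_JankoFourType

/-! Interfaces of the `J₄` recognition: `Hyp` (what is used of the Janko-four-type hypothesis), `Fr` (a frame of the
extraspecial group), `St` (the structure of `H = C(z)` after step A1). -/

set_option autoImplicit false

namespace Cfsg.Agent.J4T
open Cfsg.Agent.Comp Subgroup

variable {G : Type*} [Group G]

/-- `IsOfJankoFourTypeWith` without its last two clauses. -/
structure Hyp (z : G) (P : Subgroup G) : Prop where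
  ord : orderOf z = 2
  ext : IsExtraspecial 2 ↥(twoCoreOfCentralizer z)
  card : Nat.card ↥(twoCoreOfCentralizer z) = 2 ^ 13
  cent : centralizer ({z} : Set G) ⊓ centralizer (twoCoreOfCentralizer z : Set G) ≤ twoCoreOfCentralizer z
  exN : ∃ N : Subgroup G, twoCoreOfCentralizer z ≤ N ∧ N ≤ centralizer ({z} : Set G) ∧
    centralizer ({z} : Set G) ≤ normalizer (N : Set G) ∧ Nat.card ↥N = 3 * Nat.card ↥(twoCoreOfCentralizer z) ∧
    (∃ _ : (N.subgroupOf (centralizer ({z} : Set G))).Normal,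
      Nonempty (↥(centralizer ({z} : Set G)) ⧸ N.subgroupOf (centralizer ({z} : Set G)) ≃* MulAut ↥Spor.M22)) ∧
    P ≤ N
  cardP : Nat.card ↥P = 3
  fpf : twoCoreOfCentralizer z ⊓ centralizer (P : Set G) = zpowers z

theorem Hyp.of {z : G} {P : Subgroup G} (h : IsOfJankoFourTypeWith z P) : Hyp z P :=
  ⟨h.1, h.2.1, h.2.2.1, h.2.2.2.1, h.2.2.2.2.1, h.2.2.2.2.2.1, h.2.2.2.2.2.2.1⟩

/-- `θ` identifies the codes `< 8192` with an extraspecial group on which `p` acts as the scalar `ω`. -/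
structure Fr (z p : G) (θ : ℕ → G) : Prop where
  mul : ∀ x < 8192, ∀ y < 8192, θ x * θ y = θ (emul x y)
  inj : ∀ x < 8192, ∀ y < 8192, θ x = θ y → x = y
  hz : θ 4096 = z
  op : orderOf p = 3
  pθ : ∀ x < 8192, p * θ x * p⁻¹ = θ (kact cW x)

/-- `H = C(z) = E·N_H(p)` acts on `E/⟨z⟩` through `μ`, with kernel `E` and image the standard group `Xs`. -/
structure St (z p : G) (θ : ℕ → G) (μ : centralizer ({z} : Set G) →* MulAut (XV 12)) : Prop extends Fr z p θ where
  core : ∀ g, g ∈ twoCoreOfCentralizer z ↔ ∃ x < 8192, θ x = g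
  cent : centralizer (twoCoreOfCentralizer z : Set G) ≤ twoCoreOfCentralizer z
  act : ∀ (h : centralizer ({z} : Set G)) (c : ℕ), MR 12 c (μ h) → ∀ x < 8192,
    h * θ x * h⁻¹ = θ (app c x) ∨ h * θ x * h⁻¹ = θ (app c x ^^^ 4096)
  ker : ∀ h : centralizer ({z} : Set G), μ h = 1 ↔ h.1 ∈ twoCoreOfCentralizer z
  range : μ.range = Xs
  cardH : Nat.card ↥(centralizer ({z} : Set G)) = 8192 * 2661120
  frat : ∀ g ∈ Xs, ∃ k : centralizer ({z} : Set G), k.1 ∈ normalizer (zpowers p : Set G) ∧ μ k = g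

end Cfsg.Agent.J4T
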