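import Cfsg.Agent.Spor.Cent5

/-! Groups of shape `Q.3.M.2` (helper23). -/

namespace Cfsg.Agent.J4T.C

open Cfsg.Agent.Spor Subgroup

theorem centQ {H : Type} [Group H] {y : ℕ → H} {xs : List ℕ} [hQ : (genL y xs).Normal] {Z : Subgroup H} [Z.Normal]
    (hp : IsPGroup 2 (genL y xs)) {w : H} (hw : w ^ 3 = 1)
    (hc : ∀ p ∈ genL y xs, ∀ q ∈ genL y xs, p * q * p⁻¹ * q⁻¹ ∈ Z) (h : ∀ x ∈ xs, (y x * w) ^ 3 ∈ Z) :
    ∀ q ∈ genL y xs, q * w = w * q → q ∈ Z := fun q hq e => by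
  let π := QuotientGroup.mk' Z
  have c : ∀ p ∈ genL y xs, ∀ q ∈ genL y xs, Commute (π p) (π q) := fun p hp q hq => by
    have := (QuotientGroup.eq_one_iff _).2 (hc p hp q hq)
    rwa [mul_inv_eq_one.symm.trans (show _ ↔ _ from Iff.rfl), inv_one, mul_one, QuotientGroup.mk_mul,
      QuotientGroup.mk_inv, mul_inv_eq_one, QuotientGroup.mk_mul, QuotientGroup.mk_inv, mul_inv_eq_iff_eq_mul,
      QuotientGroup.mk_mul] at this
  let f : genL y xs →* H ⧸ Z := MonoidHom.mk' (fun q => π q * π (w * q * w⁻¹) * π (w * w * q * (w * w)⁻¹)) fun a b => by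
    have c1 := c _ b.2 _ (hQ.conj_mem _ a.2 w)
    have c2 := (c _ b.2 _ (hQ.conj_mem _ a.2 (w * w))).mul_left (c _ (hQ.conj_mem _ b.2 w) _ (hQ.conj_mem _ a.2 (w * w)))
    rw [← c2.mul_mul_mul_comm, ← c1.mul_mul_mul_comm]
    simp [mul_assoc]
  have e3 : ∀ q : genL y xs, f q = π ((q * w) ^ 3) := fun q => by
    show π q * π (w * q * w⁻¹) * π (w * w * q * (w * w)⁻¹) = _
    rw [← map_mul, ← map_mul, inv_eq_of_mul_eq_one_right (show w * w * w = 1 by rw [← hw, pow_three'])]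
    congr 1; rw [pow_three']; group
  obtain ⟨q, h1, rfl⟩ := genL_le (H := f.ker.map (genL y xs).subtype)
    (fun x hx => ⟨⟨_, mem_genL _ hx⟩, (e3 _).trans ((QuotientGroup.eq_one_iff _).2 (h x hx)), rfl⟩) hq
  have h2 : π q ^ 3 = 1 := by
    rw [← show f q = 1 from h1, e3, Commute.mul_pow (show Commute (q : H) w from e), hw, mul_one, map_pow]
  obtain ⟨k, hk⟩ := hp q
  have h3 : π q ^ 2 ^ k = 1 := by rw [← map_pow, ← coe_pow, hk, coe_one, map_one]
  exact (QuotientGroup.eq_one_iff _).1 (orderOf_eq_one_iff.1 (Nat.eq_one_of_dvd_coprimes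
    (Nat.Coprime.pow_right k (by decide : Nat.Coprime 3 2)) (orderOf_dvd_of_pow_eq_one h2) (orderOf_dvd_of_pow_eq_one h3)))

variable {H U : Type} [Group H] [Group U] [IsSimpleGroup U] {Q N M : Subgroup H} [Q.Normal] [N.Normal] [hM : M.Normal]
  {w a b u : H} (hU : center U = ⊥) (e : M.map (QuotientGroup.mk' N) ≃* U) (h2 : M.index = 2)
  (hN : N.map (QuotientGroup.mk' Q) = zpowers (w : H ⧸ Q)) (hw : w ^ 3 = 1) (hwQ : w ∉ Q)
  (a1 : a * w = w * a) (b1 : b * w = w * b) (a3 : a ^ 3 = 1) (b3 : b ^ 3 = 1) (ab : a * b = w * (b * a))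
  (u1 : w * u * w = u)

omit hM in
include e in
theorem nrm1 (R : Subgroup H) [R.Normal] : R ⊓ M ≤ N ∨ M ≤ R ⊔ N := by
  have := e.isSimpleGroup
  have : (R.map (QuotientGroup.mk' N)).Normal := Normal.map inferInstance _ (QuotientGroup.mk'_surjective N)
  rcases IsSimpleGroup.eq_bot_or_eq_top_of_normal ((R.map (QuotientGroup.mk' N)).subgroupOf
    (M.map (QuotientGroup.mk' N))) inferInstance with h | h
  · exact .inl fun r hr => (QuotientGroup.eq_one_iff _).1 (congrArg Subtype.val (mem_bot.1 (h.le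
      (show (⟨_, mem_map_of_mem _ hr.2⟩ : M.map (QuotientGroup.mk' N)) ∈ _ from mem_map_of_mem _ hr.1))))
  · have := comap_mono (f := QuotientGroup.mk' N) (subgroupOf_eq_top.1 h)
    rw [comap_map_eq, comap_map_eq, QuotientGroup.ker_mk'] at this
    exact .inr (le_sup_left.trans this)

omit [IsSimpleGroup U] hM [N.Normal] in
include h2 hN a3 b3 ab in
theorem nrm2 (R : Subgroup H) [R.Normal] (h : M ≤ R ⊔ N) : w ∈ R ⊔ Q := by
  have k : ∀ {a : H}, a ^ 3 = 1 → ∃ i : ℤ, (a : H ⧸ (R ⊔ Q)) = (w : H ⧸ (R ⊔ Q)) ^ i := fun {a} a3 => by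
    have h1 : a ∈ M := by
      have := M.mul_mem (mul_self_mem_of_index_two h2 a) (mul_self_mem_of_index_two h2 a)
      rwa [← mul_assoc, ← pow_three', a3, one_mul] at this
    obtain ⟨r, hr, n, hn, rfl⟩ := mem_sup_of_normal_left.1 (h h1)
    obtain ⟨i, hi⟩ := hN.le (mem_map_of_mem _ hn)
    refine ⟨i, ?_⟩
    rw [QuotientGroup.mk_mul, (QuotientGroup.eq_one_iff _).2 (mem_sup_left hr), one_mul, ← QuotientGroup.mk_zpow,
      eq_comm, QuotientGroup.eq]
    exact mem_sup_right (QuotientGroup.eq.1 hi)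
  obtain ⟨i, hi⟩ := k a3
  obtain ⟨j, hj⟩ := k b3
  have := congrArg (QuotientGroup.mk (s := R ⊔ Q)) ab
  rw [QuotientGroup.mk_mul, QuotientGroup.mk_mul, QuotientGroup.mk_mul, hi, hj, zpow_mul_comm, right_eq_mul] at this
  exact (QuotientGroup.eq_one_iff _).1 this

include hU e h2 hN hw hwQ a1 b1 a3 b3 ab u1 in
theorem nrm3 {c : H} (h : ∀ m ∈ M, c * m * c⁻¹ * m⁻¹ ∈ N) : c ∈ N := by
  let π := QuotientGroup.mk' Q
  have : (N.map π).Normal := Normal.map inferInstance _ (QuotientGroup.mk'_surjective Q)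
  let R := (centralizer (N.map π : Set (H ⧸ Q))).comap π
  have hR : ∀ g, g ∈ R ↔ Commute (π w) (π g) := fun g => by
    rw [mem_comap, hN, mem_centralizer_iff]
    exact ⟨fun h => h _ (mem_zpowers _), by rintro h _ ⟨i, rfl⟩; exact h.zpow_left i⟩
  have ca : Commute (π w) (π a) := Commute.map a1.symm π
  have cb : Commute (π w) (π b) := Commute.map b1.symm π
  have k : ∀ {a : H}, a ^ 3 = 1 → a ∈ M := fun {a} a3 => by
    have := M.mul_mem (mul_self_mem_of_index_two h2 a) (mul_self_mem_of_index_two h2 a)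
    rwa [← mul_assoc, ← pow_three', a3, one_mul] at this
  have h3 : M ≤ R := by
    rcases nrm1 e R with h3 | h3
    · obtain ⟨i, hi⟩ := hN.le (mem_map_of_mem _ (h3 ⟨(hR a).2 ca, k a3⟩))
      have := congrArg π ab
      rw [map_mul, map_mul, map_mul, show π a = π w ^ i from hi.symm, ← (cb.zpow_left i).eq, right_eq_mul] at this
      exact absurd ((QuotientGroup.eq_one_iff _).1 this) hwQ
    · refine h3.trans (sup_le le_rfl fun n hn => ?_)
      obtain ⟨i, hi⟩ := hN.le (mem_map_of_mem _ hn)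
      exact (hR n).2 (hi ▸ (Commute.refl _).zpow_right i)
  have h4 : c ∈ R := by
    obtain ⟨i, hi⟩ := hN.le (mem_map_of_mem _ (h a (k a3)))
    obtain ⟨j, hj⟩ := hN.le (mem_map_of_mem _ (h b (k b3)))
    have e1 : π c * π a * (π c)⁻¹ = π w ^ i * π a := by
      rw [show π w ^ i = _ from hi]; simp [π]
    have e2 : π c * π b * (π c)⁻¹ = π w ^ j * π b := by
      rw [show π w ^ j = _ from hj]; simp [π]
    have e3 : π a * π b = π w * (π b * π a) := by simpa using congrArg π ab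
    have e4 : π c * π a * (π c)⁻¹ * (π c * π b * (π c)⁻¹) =
        π c * π w * (π c)⁻¹ * (π c * π b * (π c)⁻¹ * (π c * π a * (π c)⁻¹)) := by
      calc _ = π c * (π a * π b) * (π c)⁻¹ := by group
        _ = _ := by rw [e3]; group
    rw [e1, e2, (ca.zpow_left j).symm.mul_mul_mul_comm, (cb.zpow_left i).symm.mul_mul_mul_comm, e3,
      zpow_mul_comm _ j i, ← mul_assoc, ← mul_assoc _ _ (π b * π a), mul_left_inj,
      ← (((Commute.refl _).zpow_right i).mul_right ((Commute.refl _).zpow_right j)).eq, mul_left_inj] at e4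
    exact (hR c).2 (mul_inv_eq_iff_eq_mul.1 e4.symm).symm
  have h5 : u ∉ R := fun h5 => by
    have := congrArg π u1
    rw [map_mul, map_mul, mul_assoc, ← ((hR u).1 h5).eq, ← mul_assoc, mul_eq_right] at this
    have h6 := congrArg π hw
    rw [map_pow, pow_three', this, one_mul, map_one] at h6
    exact hwQ ((QuotientGroup.eq_one_iff _).1 h6)
  have h6 : c ∈ M := by
    by_contra h6
    exact h5 ((R.mul_mem_cancel_left h4).1 (h3 ((mul_mem_iff_of_index_two h2).2 (iff_of_false h6 fun h => h5 (h3 h)))))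
  have h7 : e ⟨_, mem_map_of_mem _ h6⟩ ∈ center U := mem_center_iff.2 fun g => by
    obtain ⟨⟨_, m, hm, rfl⟩, rfl⟩ := e.surjective g
    rw [← map_mul, ← map_mul]
    refine congrArg e (Subtype.ext ?_)
    have := (QuotientGroup.eq_one_iff _).2 (h m hm)
    simpa [mul_inv_eq_iff_eq_mul, eq_comm (a := (m * c : H ⧸ N))] using this
  rw [hU, mem_bot, e.map_eq_one_iff] at h7
  exact (QuotientGroup.eq_one_iff _).1 (congrArg Subtype.val h7)

include hU e h2 hN hw hwQ a1 b1 a3 b3 ab u1 in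
theorem nrm4 (R : Subgroup H) [hR : R.Normal] : R ≤ Q ∨ w ∈ R ⊔ Q := by
  rcases nrm1 e R with h | h
  · by_contra! h'
    refine h'.1 fun r hr => ?_
    obtain ⟨i, hi⟩ := hN.le (mem_map_of_mem _ (nrm3 hU e h2 hN hw hwQ a1 b1 a3 b3 ab u1 (c := r) fun m hm => h
      ⟨by rw [mul_assoc, mul_assoc, ← mul_assoc m]; exact R.mul_mem hr (hR.conj_mem _ (R.inv_mem hr) m),
        M.mul_mem (hM.conj_mem _ hm r) (M.inv_mem hm)⟩))
    have h1 : w ^ i ∈ R ⊔ Q := by
      have : (w ^ i)⁻¹ * r ∈ Q := QuotientGroup.eq.1 hi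
      simpa using (R ⊔ Q).mul_mem (mem_sup_left hr) ((R ⊔ Q).inv_mem (mem_sup_right this))
    have h3 : w ^ i = w ^ (i % 3) := zpow_eq_zpow_emod' i hw
    have h4 : i % 3 = 0 ∨ i % 3 = 1 ∨ i % 3 = 2 := by omega
    rcases h4 with h4 | h4 | h4 <;> rw [h4] at h3
    · have : (w ^ i)⁻¹ * r ∈ Q := QuotientGroup.eq.1 hi
      simpa [h3] using this
    · exact absurd (by simpa [h3] using h1) h'.2
    · refine absurd ?_ h'.2
      rw [h3, zpow_two] at h1
      rw [← inv_eq_of_mul_eq_one_right (show w * w * w = 1 by rw [← hw, pow_three'])]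
      exact inv_mem h1
  · exact .inr (nrm2 h2 hN a3 b3 ab R h)

include hU e h2 hN hw hwQ a1 b1 a3 b3 ab u1 in
theorem quotAut [Finite U] (hc : Nat.card (H ⧸ N) = Nat.card (MulAut U)) : Nonempty (H ⧸ N ≃* MulAut U) := by
  have : (M.map (QuotientGroup.mk' N)).Normal := Normal.map inferInstance _ (QuotientGroup.mk'_surjective N)
  have : Finite (MulAut U) := inferInstance
  refine ⟨MulEquiv.ofBijective ((MulAut.congr e).toMonoidHom.comp MulAut.conjNormal)
    ((Nat.bijective_iff_injective_and_card _).2 ⟨(injective_iff_map_eq_one _).2 fun c hc => ?_, hc⟩)⟩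
  obtain ⟨c, rfl⟩ := QuotientGroup.mk_surjective c
  refine (QuotientGroup.eq_one_iff _).2 (nrm3 hU e h2 hN hw hwQ a1 b1 a3 b3 ab u1 fun m hm => ?_)
  have := congrArg Subtype.val (DFunLike.congr_fun ((MulAut.congr e).map_eq_one_iff.1 hc) ⟨_, mem_map_of_mem _ hm⟩)
  exact (QuotientGroup.eq_one_iff _).1 (mul_inv_eq_one.2 this)

end Cfsg.Agent.J4T.C
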