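import Cfsg.Agent.J4T.CV
import Cfsg.Agent.J4T.C6
import Cfsg.Agent.J4T.AutM22

/-! helper23: `J4` is of Janko four type. -/

set_option maxRecDepth 100000

namespace Cfsg.Agent.J4T

open Cfsg.Agent.Spor Subgroup

namespace C

noncomputable def NN : Subgroup Cfsg.Spor.J4 := genL Y [0, 1, 2, 3, 4, 5, 6, 7, 8, 9, 10, 11, 12, 13]

theorem NN_le : NN ≤ H0 := (Y_eqs.le (by decide +kernel)).trans H0_gen.ge

theorem Q0_le : Q0 ≤ NN := Y_eqs.le (by decide +kernel)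

theorem Y_ne {x : ℕ} (h : J4C.Y x ≠ 1) : Y x ≠ 1 := fun e => h ((MulAut.conj (ι cu)⁻¹).map_eq_one_iff.1 e)

theorem w3 : Y 13 ^ 3 = 1 := Y_eqs.pow 13 3 (by decide +kernel)

theorem w1 : Y 13 ≠ 1 := Y_ne (Ct.let_ne J4L.paK (by decide) J4C.inj (by decide +kernel))

theorem struct : ∃ M : Subgroup H0, (Q0.subgroupOf H0).Normal ∧ M.Normal ∧ Nat.card (Q0.subgroupOf H0) = 2 ^ 13 ∧
    IsExtraspecial 2 (Q0.subgroupOf H0) ∧ Nat.card (NN.subgroupOf H0) = 3 * 2 ^ 13 ∧ M.index = 2 ∧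
    ∃ _ : (NN.subgroupOf H0).Normal, Nonempty (M.map (QuotientGroup.mk' (NN.subgroupOf H0)) ≃* Cfsg.Spor.M22) := by
  rw [Q0, NN, ← Ct.genL_subG (Q0_le.trans NN_le), ← Ct.genL_subG NN_le]
  have hc : genL Y [0, 1, 2, 3, 4, 5, 6, 7, 8, 9, 10, 11, 12, 13, 14, 15, 16, 17, 18, 19, 20, 26, 27, 28, 29, 30, 31, 32] ≤ H0 :=
    (Y_eqs.le (by decide +kernel)).trans H0_gen.ge
  have e := Y_eqs.sub hc
  have t1 := Ct.subG_top H0_gen
  have t2 := top_unique (t1.ge.trans (e.le (xs := [0, 1, 2, 3, 4, 5, 6, 7, 8, 9, 10, 11, 12, 13, 26, 27, 28, 29, 30, 31, 32] ++ [15]) (by decide +kernel)))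
  have hQ := e.normal (qs := [0, 1, 2, 3, 4, 5, 6, 7, 8, 9, 10, 11, 12]) t1 (by decide +kernel)
  have hN := e.normal (qs := [0, 1, 2, 3, 4, 5, 6, 7, 8, 9, 10, 11, 12, 13]) t1 (by decide +kernel)
  have hM := e.normal (qs := [0, 1, 2, 3, 4, 5, 6, 7, 8, 9, 10, 11, 12, 13, 26, 27, 28, 29, 30, 31, 32]) t2 (by decide +kernel)
  have es := (e.sub (xs := [0, 1, 2, 3, 4, 5, 6, 7, 8, 9, 10, 11, 12]) le_rfl).es (m := 5) (Ct.subG_top rfl) rfl (by decide +kernel)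
    (Ct.subG_ne (mem_genL _ (by decide)) (Ct.subG_ne (hc (mem_genL _ (by decide))) (Y_ne J4C.z1)))
  have cN := Ct.card_ext Nat.prime_three (e.pow_mem (qs := [0, 1, 2, 3, 4, 5, 6, 7, 8, 9, 10, 11, 12]) 13 3 (by decide +kernel))
  rw [if_neg (Ct.not_mem_of_card es.2 (e.pow 13 3 (by decide +kernel)) (Ct.subG_ne (hc (mem_genL _ (by decide))) w1)
    (by decide)), es.2] at cN
  have cA := Ct.card_ext Nat.prime_two (e.pow_mem (qs := [0, 1, 2, 3, 4, 5, 6, 7, 8, 9, 10, 11, 12, 13, 26, 27, 28, 29, 30, 31, 32]) 15 2 (by decide +kernel))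
  rw [t2, card_top, card_H0] at cA
  have le : genL (subG H0 Y) [0, 1, 2, 3, 4, 5, 6, 7, 8, 9, 10, 11, 12, 13] ≤ genL _ [0, 1, 2, 3, 4, 5, 6, 7, 8, 9, 10, 11, 12, 13, 26, 27, 28, 29, 30, 31, 32] := e.le (by decide +kernel)
  have hn := hN.subgroupOf (genL (subG H0 Y) [0, 1, 2, 3, 4, 5, 6, 7, 8, 9, 10, 11, 12, 13, 26, 27, 28, 29, 30, 31, 32])
  obtain ⟨f⟩ := Known.M22T.equiv
  have : IsSimpleGroup Cfsg.Spor.M22 := Golay.simple_M22
  have := f.symm.isSimpleGroup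
  obtain ⟨q⟩ := (e.sub (xs := [0, 1, 2, 3, 4, 5, 6, 7, 8, 9, 10, 11, 12, 13, 26, 27, 28, 29, 30, 31, 32]) le_rfl).quot_lifts _ (qs := [0, 1, 2, 3, 4, 5, 6, 7, 8, 9, 10, 11, 12, 13]) (xs := [26, 27, 28, 29, 30, 31, 32]) Known.M22P.lifts
    (Ct.genL_subG le).le (Ct.subG_top rfl) (by decide +kernel) fun h => by
      rw [← le_antisymm le (subgroupOf_eq_top.1 h), show Nat.card (genL (subG H0 Y) [0, 1, 2, 3, 4, 5, 6, 7, 8, 9, 10, 11, 12, 13]) = _ from cN] at cA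
      split_ifs at cA <;> exact absurd cA (by decide)
  have c1 := (Nat.card_congr q.toEquiv).trans Known.M22P.card
  replace cN : Nat.card (genL (subG H0 Y) [0, 1, 2, 3, 4, 5, 6, 7, 8, 9, 10, 11, 12, 13]) = _ := cN
  generalize genL (subG H0 Y) [0, 1, 2, 3, 4, 5, 6, 7, 8, 9, 10, 11, 12, 13, 26, 27, 28, 29, 30, 31, 32] = M at *
  generalize genL (subG H0 Y) [0, 1, 2, 3, 4, 5, 6, 7, 8, 9, 10, 11, 12, 13] = N at *
  have c2 := card_eq_card_quotient_mul_card_subgroup (N.subgroupOf M)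
  rw [c1, Nat.card_congr (subgroupOfEquivOfLe le).toEquiv, cN] at c2
  have c3 := M.index_mul_card
  rw [card_H0, c2] at c3
  refine ⟨M, hQ, hM, es.2, es.1, cN, by omega, hN, ⟨?_⟩⟩
  let g := (QuotientGroup.mk' N).comp M.subtype
  exact ((MulEquiv.subgroupCongr (by rw [MonoidHom.range_comp, range_subtype])).trans
    ((QuotientGroup.quotientKerEquivRange g).symm.trans (QuotientGroup.quotientMulEquivOfEq
      (by rw [← MonoidHom.comap_ker, QuotientGroup.ker_mk', comap_subtype])))).trans (q.trans f.symm)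

def aw : List ℕ := [23, 21, 23, 21, 18, 21, 23, 21, 18, 21, 23, 21, 23, 21, 23, 21, 23, 21, 23, 21, 18, 21, 18, 21, 18, 21, 18, 21, 23, 21, 18, 21, 23, 21, 18, 21]

def bw : List ℕ := [23, 21, 18, 21, 23, 21, 23, 21, 18, 21, 18, 21, 18, 21, 23, 21, 23, 21, 23, 21, 23, 21, 23, 21, 18, 21, 18, 21, 23, 21, 18, 21, 23, 21, 18, 21, 23, 21, 23, 21, 18, 21, 18, 21, 18, 21, 23, 21, 18, 21, 23, 21]

def uw : List ℕ := [23, 21, 18, 21, 18, 21, 23, 21, 23, 21, 18, 21, 18, 21, 23, 21, 18, 21, 23, 21, 18, 21, 23, 21, 23, 21, 18, 21, 23, 21, 18, 21, 18, 21, 23, 21, 18, 21, 23, 21, 18, 21, 18, 21, 23, 21, 18, 21, 18, 21, 18, 21]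

theorem eqs2 : Ct.Eqs Y ([(aw ++ [0], [0] ++ aw), (bw ++ [0], [0] ++ bw), (uw ++ [0], [0] ++ uw), ([13] ++ aw, aw ++ [13]),
    ([13] ++ bw, bw ++ [13]), (aw ++ (aw ++ aw), []), (bw ++ (bw ++ bw), []), (bw ++ aw, aw ++ bw ++ [13]),
    ([13] ++ (uw ++ [13]), uw), ([13, 0, 13, 0, 13, 0], [0])] ++ [([13, 1, 13, 1, 13, 1], []), ([13, 2, 13, 2, 13, 2], []), ([13, 3, 13, 3, 13, 3], []), ([13, 4, 13, 4, 13, 4], []), ([13, 5, 13, 5, 13, 5], [0]), ([13, 6, 13, 6, 13, 6], []), ([13, 7, 13, 7, 13, 7], [0]), ([13, 8, 13, 8, 13, 8], [0]), ([13, 9, 13, 9, 13, 9], [0]), ([13, 10, 13, 10, 13, 10], []), ([13, 11, 13, 11, 13, 11], [0]), ([13, 12, 13, 12, 13, 12], [0])]) :=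
  eqs_map (Ct.eqs_K J4L.paK (by decide) (by decide +kernel)) (MulAut.conj (ι cu)⁻¹).toMonoidHom

theorem elts : ∃ a b u : H0, a * Y 13 = Y 13 * a ∧ b * Y 13 = Y 13 * b ∧ a ^ 3 = 1 ∧ b ^ 3 = 1 ∧
    (a * b : Cfsg.Spor.J4) = Y 13 * (b * a) ∧ Y 13 * u * Y 13 = u := by
  have k : ∀ w, ev Y (w ++ [0]) = ev Y ([0] ++ w) → ev Y w ∈ H0 := fun w h => mem_centralizer_singleton_iff.2 (by
    rw [ev_append, ev_append, ev_one, Y0] at h; exact h.symm)
  have e := fun u v hc => eqs2.eq u v hc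
  refine ⟨⟨_, k aw (e _ _ (by decide +kernel))⟩, ⟨_, k bw (e _ _ (by decide +kernel))⟩, ⟨_, k uw (e _ _ (by decide +kernel))⟩,
    ?_, ?_, Subtype.ext ?_, Subtype.ext ?_, ?_, ?_⟩
  · have := e ([13] ++ aw) (aw ++ [13]) (by decide +kernel)
    rwa [ev_append, ev_append, ev_one] at this
  · have := e ([13] ++ bw) (bw ++ [13]) (by decide +kernel)
    rwa [ev_append, ev_append, ev_one] at this
  · have := e (aw ++ (aw ++ aw)) [] (by decide +kernel)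
    rwa [ev_append, ev_append, ← pow_three'] at this
  · have := e (bw ++ (bw ++ bw)) [] (by decide +kernel)
    rwa [ev_append, ev_append, ← pow_three'] at this
  · have := e (bw ++ aw) (aw ++ bw ++ [13]) (by decide +kernel)
    rwa [ev_append, ev_append, ev_append, ev_one] at this
  · have := e ([13] ++ (uw ++ [13])) uw (by decide +kernel)
    rwa [ev_append, ev_append, ev_one] at this

theorem z_Q : z0 ∈ Q0 := Y0 ▸ mem_genL _ (by decide)

theorem w_N : Y 13 ∈ NN := mem_genL _ (by decide)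

theorem cent_w : ∀ q ∈ Q0, q * Y 13 = Y 13 * q → q ∈ zpowers z0 := fun q hq e => by
  obtain ⟨-, hQ, -, cQ, es, -⟩ := struct
  let z : H0 := ⟨z0, z0_mem⟩
  have zc : ∀ a : H0, a * z = z * a := fun a => Subtype.ext (mem_centralizer_singleton_iff.1 a.2)
  have : (zpowers z).Normal := ⟨by
    rintro _ ⟨i, rfl⟩ g; rw [(Commute.zpow_right (zc g) i).eq, mul_inv_cancel_right]; exact zpow_mem (mem_zpowers _) i⟩
  have hz : center (Q0.subgroupOf H0) = zpowers ⟨z, z_Q⟩ := Eq.symm (eq_of_le_of_card_ge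
    (zpowers_le.2 (mem_center_iff.2 fun g => Subtype.ext (zc g.1))) (by
      rw [es.2, Nat.card_zpowers, ← orderOf_coe, ← orderOf_coe, ord_z0]))
  have hc : ∀ p ∈ Q0.subgroupOf H0, ∀ q ∈ Q0.subgroupOf H0, p * q * p⁻¹ * q⁻¹ ∈ zpowers z := fun p hp q hq => by
    obtain ⟨i, hi⟩ := (es.1.2.2.trans hz).le (commutator_mem_commutator (mem_top ⟨p, hp⟩) (mem_top ⟨q, hq⟩))
    exact ⟨i, congrArg Subtype.val hi⟩
  have hp := es.1.1
  have hq' : (⟨q, NN_le (Q0_le hq)⟩ : H0) ∈ Q0.subgroupOf H0 := hq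
  rw [Q0, ← Ct.genL_subG (Q0_le.trans NN_le)] at hQ hc hp hq'
  obtain ⟨i, hi⟩ := centQ hp (w := ⟨_, NN_le w_N⟩) (Subtype.ext w3) hc (fun x hx => by
    have h : ∀ x ∈ [0, 1, 2, 3, 4, 5, 6, 7, 8, 9, 10, 11, 12], ∃ r ∈ [[], [0]], ([13, x, 13, x, 13, x], r) ∈
      [([13, 0, 13, 0, 13, 0], [0])] ++ [([13, 1, 13, 1, 13, 1], []), ([13, 2, 13, 2, 13, 2], []), ([13, 3, 13, 3, 13, 3], []), ([13, 4, 13, 4, 13, 4], []), ([13, 5, 13, 5, 13, 5], [0]), ([13, 6, 13, 6, 13, 6], []), ([13, 7, 13, 7, 13, 7], [0]), ([13, 8, 13, 8, 13, 8], [0]), ([13, 9, 13, 9, 13, 9], [0]), ([13, 10, 13, 10, 13, 10], []), ([13, 11, 13, 11, 13, 11], [0]), ([13, 12, 13, 12, 13, 12], [0])] := by decide +kernel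
    obtain ⟨r, hr, h⟩ := h x hx
    have h1 := eqs2 _ ((List.mem_append.1 h).elim (fun h => List.mem_append_left _ (by simp [List.mem_singleton.1 h]))
      (List.mem_append_right _))
    have h2 : (((subG H0 Y x * ⟨_, NN_le w_N⟩) ^ 3 : H0) : Cfsg.Spor.J4) = ev Y r := by
      rw [← h1, coe_pow, coe_mul, coe_subG (NN_le (Q0_le (mem_genL _ hx)))]; simp [pow_three', mul_assoc]
    rcases List.mem_cons.1 hr with rfl | hr
    · exact Subtype.ext (a2 := (1 : H0)) h2 ▸ one_mem _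
    · rw [List.mem_singleton.1 hr, ev_one, Y0] at h2
      exact Subtype.ext (a2 := z) h2 ▸ mem_zpowers _) _ hq' (Subtype.ext e)
  exact ⟨i, congrArg Subtype.val hi⟩

theorem main : (∀ R : Subgroup H0, R.Normal → R ≤ Q0.subgroupOf H0 ∨ ⟨_, NN_le w_N⟩ ∈ R ⊔ Q0.subgroupOf H0) ∧
    ∃ _ : (NN.subgroupOf H0).Normal, Nonempty (H0 ⧸ NN.subgroupOf H0 ≃* MulAut Cfsg.Spor.M22) := by
  obtain ⟨M, hQ, hM, cQ, es, cN, h2, hN, ⟨e⟩⟩ := struct
  obtain ⟨a, b, u, a1, b1, a3, b3, ab, u1⟩ := elts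
  have : IsSimpleGroup Cfsg.Spor.M22 := Golay.simple_M22
  have hU : center Cfsg.Spor.M22 = ⊥ := (this.eq_bot_or_eq_top_of_normal _ inferInstance).resolve_right fun e => by
    let : CommGroup Cfsg.Spor.M22 := Group.commGroupOfCenterEqTop e
    have := IsSimpleGroup.prime_card (α := Cfsg.Spor.M22)
    rw [Golay.card_M22] at this
    exact absurd this (by norm_num)
  let w : H0 := ⟨_, NN_le w_N⟩
  have hw : w ^ 3 = 1 := Subtype.ext w3
  have hwQ := Ct.not_mem_of_card cQ hw (fun e => w1 (congrArg Subtype.val e)) (by decide)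
  have hN' : (NN.subgroupOf H0).map (QuotientGroup.mk' (Q0.subgroupOf H0)) = zpowers (w : H0 ⧸ Q0.subgroupOf H0) := by
    refine le_antisymm ?_ (zpowers_le.2 (mem_map_of_mem _ w_N))
    rw [map_le_iff_le_comap, NN, ← Ct.genL_subG NN_le]
    refine genL_le fun x hx => ?_
    have h1 := coe_subG (NN_le (mem_genL _ hx))
    rcases (List.mem_append (s := [0, 1, 2, 3, 4, 5, 6, 7, 8, 9, 10, 11, 12]) (t := [13])).1 hx with h | h
    · have h3 : subG H0 Y x ∈ Q0.subgroupOf H0 := by rw [mem_subgroupOf, h1]; exact mem_genL _ h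
      rw [mem_comap, QuotientGroup.mk'_apply, (QuotientGroup.eq_one_iff _).2 h3]; exact one_mem _
    · rw [List.mem_singleton.1 h] at h1 ⊢
      exact Subtype.ext (a2 := w) h1 ▸ mem_zpowers _
  refine ⟨fun R _ => nrm4 hU e h2 hN' hw hwQ (Subtype.ext a1) (Subtype.ext b1) a3 b3 (Subtype.ext ab) (Subtype.ext u1) R,
    hN, quotAut hU e h2 hN' hw hwQ (Subtype.ext a1) (Subtype.ext b1) a3 b3 (Subtype.ext ab) (Subtype.ext u1) ?_⟩
  have := card_eq_card_quotient_mul_card_subgroup (NN.subgroupOf H0)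
  rw [card_H0, cN] at this
  rw [card_autM22]; omega

end C

open C

theorem core_eq : twoCoreOfCentralizer z0 = Q0 := by
  obtain ⟨-, hQ, -, -, es, -⟩ := struct
  have : pCore 2 H0 = Q0.subgroupOf H0 := le_antisymm (sSup_le fun R hR => (main.1 R hR.1).resolve_right fun h => by
    have := hR.1
    obtain ⟨k, hk⟩ := IsPGroup.to_sup_of_normal_right hR.2 es.1.1 ⟨_, h⟩
    exact w1 (orderOf_eq_one_iff.1 (Nat.eq_one_of_dvd_coprimes (Nat.Coprime.pow_right k (by decide : Nat.Coprime 3 2))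
      (orderOf_dvd_of_pow_eq_one w3) (orderOf_dvd_of_pow_eq_one (congrArg (fun x => x.1.1) hk))))) (le_sSup ⟨hQ, es.1.1⟩)
  exact (congrArg (map H0.subtype) this).trans (by rw [subgroupOf_map_subtype, inf_eq_left.2 (Q0_le.trans NN_le)])

theorem isType : IsOfJankoFourTypeWith z0 P0 := by
  obtain ⟨-, hQ, -, cQ, es, cN, -⟩ := struct
  obtain ⟨a, b, u, a1, b1, -, -, ab, u1⟩ := elts
  obtain ⟨h1, hN, h2⟩ := main
  have eQ := subgroupOfEquivOfLe (Q0_le.trans NN_le)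
  have : Fact (Nat.Prime 2) := ⟨Nat.prime_two⟩
  have : Fact (Nat.Prime 3) := ⟨Nat.prime_three⟩
  have cQ' := (Nat.card_congr eQ.toEquiv).symm.trans cQ
  have hP : ∀ g, g ∈ centralizer (P0 : Set Cfsg.Spor.J4) ↔ g * Y 13 = Y 13 * g := fun g =>
    ⟨fun h => (mem_centralizer_iff.1 h _ (mem_zpowers _)).symm, fun h => mem_centralizer_iff.2 (by
      rintro _ ⟨i, rfl⟩; exact (Commute.zpow_right h i).symm)⟩
  rw [IsOfJankoFourTypeWith, core_eq]
  refine ⟨ord_z0, PGrp.ES_of_mulEquiv es eQ, cQ', fun g hg => ?_, ⟨NN, Q0_le, NN_le, (normal_subgroupOf_iff_le_normalizer NN_le).1 hN,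
    by rw [cQ', ← cN, Nat.card_congr (subgroupOfEquivOfLe NN_le).toEquiv], ⟨hN, h2⟩, zpowers_le.2 w_N⟩,
    by rw [P0, Nat.card_zpowers, orderOf_eq_prime w3 w1], le_antisymm (fun q hq => cent_w q hq.1 ((hP q).1 hq.2))
    (zpowers_le.2 ⟨z_Q, (hP _).2 (mem_centralizer_singleton_iff.1 (NN_le w_N)).symm⟩), fun h => ?_, zpowers_le.2 ?_⟩
  · refine (h1 (centralizer (Q0.subgroupOf H0 : Set H0)) inferInstance).elim (fun h => h (x := ⟨g, hg.1⟩)
      (mem_centralizer_iff.2 fun q hq => Subtype.ext (mem_centralizer_iff.1 hg.2 _ hq))) fun h => ?_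
    obtain ⟨d, hd, q, hq, e⟩ := mem_sup_of_normal_right.1 h
    have e' : (d : Cfsg.Spor.J4) * q = Y 13 := congrArg Subtype.val e
    have hd' : ∀ p ∈ Q0, p * d = d * p := fun p hp =>
      congrArg Subtype.val (mem_centralizer_iff.1 hd ⟨p, NN_le (Q0_le hp)⟩ hp)
    obtain ⟨i, hi⟩ := cent_w q hq (by rw [← e', ← mul_assoc, hd' q hq])
    have h3 : Q0 ≤ zpowers z0 := fun p hp => cent_w p hp (by
      rw [← e', ← mul_assoc, hd' p hp, mul_assoc, mul_assoc, ← hi]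
      exact congrArg _ (Commute.zpow_right (mem_centralizer_singleton_iff.1 (NN_le (Q0_le hp))) i))
    have := card_le_of_le h3
    rw [cQ', Nat.card_zpowers, ord_z0] at this
    exact absurd this (by decide)
  · have h3 : u * Y 13 * (u : Cfsg.Spor.J4)⁻¹ = (Y 13)⁻¹ := by
      rw [mul_inv_eq_iff_eq_mul, eq_inv_mul_iff_mul_eq, ← mul_assoc, u1]
    have h4 := (hP u).1 (h.le ⟨u.2, mem_normalizer_fintype (by
      rintro _ ⟨i, rfl⟩; exact ⟨-i, by rw [← conj_zpow, h3, inv_zpow']⟩)⟩).2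
    rw [mul_assoc, h4, ← mul_assoc, mul_eq_right] at u1
    exact w1 (by rw [← w3, pow_three', u1, one_mul])
  · rw [show Y 13 = a * b * (a : Cfsg.Spor.J4)⁻¹ * (b : Cfsg.Spor.J4)⁻¹ by rw [ab]; group]
    exact commutator_mem_commutator (mem_inf.2 ⟨a.2, (hP _).2 a1⟩) (mem_inf.2 ⟨b.2, (hP _).2 b1⟩)

end Cfsg.Agent.J4T
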