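import Cfsg.Agent.J4T.C3

/-! The first cohomology of the sextet group on `V` (helper23). -/

set_option maxRecDepth 100000

namespace Cfsg.Agent.J4T.C

open Cfsg.Agent.Spor Equiv

def gws : List (List ℕ) := [[1, 0, 1, 0, 2, 0, 1, 0, 2, 0, 2, 0, 1, 0, 1, 0, 2, 0, 1, 0, 2, 0, 1, 0, 1], [0]]

/-- Generators of the sextet group. -/
noncomputable def gg : ℕ → K := renG J4L.yK gws

def M1 : ℕ := 0x80011c58c06918c3d63d31912501ca076001

def M2 : ℕ := 0x8007782080b51331fd018028008002004001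

noncomputable def sel (a b x : ℕ) : ℕ := getL [a] b x

theorem sel_xor (a b a' b' x : ℕ) : sel (a ^^^ a') (b ^^^ b') x = sel a b x ^^^ sel a' b' x := by cases x <;> rfl

theorem lm_gg {x n : ℕ} (hx : x < 2) (hn : n < 2048) : lm (gg x) n = app (sel M1 M2 x) n := by
  have h : ∀ x < 2, allL (getL gws [] x) (fun x => Nat.blt x 4) = true ∧ lw (getL gws [] x) = sel M1 M2 x := by
    decide +kernel
  rw [gg, renG, lm_ev (h x hx).1 hn, (h x hx).2]

theorem co_gg {x : ℕ} (hx : x < 2) : co (gg x) = 0 := by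
  rw [gg, renG, co_ev]; revert x; decide +kernel

theorem gg_mem (x : ℕ) : gg x ∈ B0 := by
  rcases x with _ | _ | x
  exacts [mem_B0_ev (by decide +kernel), mem_B0_ev (by decide +kernel), B0.one_mem]

theorem B0_le {S : Subgroup K} (hV : V ≤ S) (h : ∀ x < 2, gg x ∈ S) : B0 ≤ S := fun b hb => by
  have h1 : cu * b * cu⁻¹ ∈ genW J4L.yK J4C.cs := J4C.h0K _ trivial (by
    have := Subgroup.mem_centralizer_singleton_iff.1 hb
    rw [v0_eq] at this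
    calc _ = cu * (b * (cu⁻¹ * J4C.t * cu)) * cu⁻¹ := by group
      _ = _ := by rw [this]; group)
  have h2 : genW J4L.yK J4C.cs ≤ S.comap (MulAut.conj cu⁻¹).toMonoidHom := genW_le fun w hw => by
    have hc : ∀ w ∈ J4C.cs, ∃ u ∈ [[1, 0, 0, 0, 0, 1, 0, 0, 1, 0, 0, 1, 0, 0, 0, 1, 0, 1, 0, 0, 1, 0, 1, 0, 1, 0, 1], [0, 0, 0, 0, 1, 0], [0, 1, 0, 1, 0, 1, 0, 1, 0, 0, 1, 0, 0, 1, 0, 1, 0, 1, 0, 1, 0, 0, 0], [1, 0, 1, 0, 0, 1, 0, 0, 1, 0, 0, 0, 1, 0, 0, 0, 1, 0, 0, 0, 1, 0, 1], [1, 0, 0, 0, 1, 0, 0, 1, 0, 0, 1, 0, 0, 1, 0, 0, 1, 0, 0, 0], []],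
      allL u (fun x => Nat.blt x 2) = true ∧ allL (cuw ++ w ++ cuw') (fun x => Nat.blt x 4) = true ∧
      allL (renW gws u) (fun x => Nat.blt x 4) = true ∧ lw (cuw ++ w ++ cuw') = lw (renW gws u) := by decide +kernel
    obtain ⟨u, -, h3, h4, h5, h6⟩ := hc w hw
    have h7 : ev gg u ∈ S := ev_mem _ _ fun x hx => h x (Dce.blt_spec (allL_spec h3 x hx))
    have h8 := hV (mul_inv_mem (ψ_eq fun n hn => (lm_ev h4 hn).trans (by rw [h6, ← lm_ev h5 hn])))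
    rw [← ev_renG, ev_append, ev_append, cu_inv] at h8
    have h9 := S.mul_mem h8 h7
    rw [show ev (renG J4L.yK gws) u = ev gg u from rfl, inv_mul_cancel_right] at h9
    simpa [cu, mul_assoc] using h9
  simpa [mul_assoc] using h2 h1

noncomputable def runC (a b : ℕ) (w : List ℕ) : ℕ → ℕ :=
  List.rec (fun n => n) (fun x _ ih n => seq (Nat.xor (app (sel M1 M2 x) n) (sel a b x)) ih) w

theorem runC_cons (a b x : ℕ) (w : List ℕ) (n : ℕ) :
    runC a b (x :: w) n = runC a b w (app (sel M1 M2 x) n ^^^ sel a b x) := seq_eq _ _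

theorem runC_xor (a b a' b' : ℕ) (w : List ℕ) (n n' : ℕ) :
    runC (a ^^^ a') (b ^^^ b') w (n ^^^ n') = runC a b w n ^^^ runC a' b' w n' := by
  induction w generalizing n n' with
  | nil => rfl
  | cons x w ih => rw [runC_cons, runC_cons, runC_cons, ← ih, app_xor, sel_xor]; congr 1; ac_rfl

theorem runC_ev {α : ℕ → K} (h : ∀ x < 2, J4C.ψ (α x) = J4C.ψ (gg x)) {w : List ℕ} (hw : ∀ x ∈ w, x < 2) :
    ∀ n < 2048, lm (ev α w) n ^^^ co (ev α w) = runC (co (α 0)) (co (α 1)) w n := by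
  induction w with
  | nil => intro n hn; rw [ev_nil, lm_one hn, co_one, Nat.xor_zero]; rfl
  | cons x w ih =>
    intro n hn
    have hx := hw x List.mem_cons_self
    have e : sel (co (α 0)) (co (α 1)) x = co (α x) := by interval_cases x <;> rfl
    rw [runC_cons, e, ← lm_gg hx hn, ← lm_of_ψ (h x hx), ← ih (fun z hz => hw z (List.mem_cons_of_mem _ hz)) _
      (Nat.xor_lt_two_pow (n := 11) (lm_lt _ hn) (co_lt _)), ev_cons, lm_mul _ _ hn, co_mul,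
      lm_xor _ (lm_lt _ hn) (co_lt _), Nat.xor_assoc]

noncomputable def sumA (a b : ℕ) (L : List (List ℕ × ℕ)) : ℕ :=
  List.rec 0 (fun e _ ih => Nat.xor (app e.2 (runC a b e.1 0)) ih) L

theorem sumA_xor (a b a' b' : ℕ) (L : List (List ℕ × ℕ)) :
    sumA (a ^^^ a') (b ^^^ b') L = sumA a b L ^^^ sumA a' b' L := by
  induction L with
  | nil => exact (Nat.xor_self 0).symm
  | cons e L ih =>
    show app e.2 (runC _ _ e.1 (0 ^^^ 0)) ^^^ sumA _ _ L =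
      (app e.2 (runC a b e.1 0) ^^^ sumA a b L) ^^^ (app e.2 (runC a' b' e.1 0) ^^^ sumA a' b' L)
    rw [runC_xor, ih, app_xor]; ac_rfl

theorem sumA_zero {a b : ℕ} {L : List (List ℕ × ℕ)} (h : ∀ e ∈ L, runC a b e.1 0 = 0) : sumA a b L = 0 := by
  induction L with
  | nil => rfl
  | cons e L ih =>
    show app e.2 (runC a b e.1 0) ^^^ sumA a b L = 0
    rw [h e List.mem_cons_self, ih fun e he => h e (List.mem_cons_of_mem _ he), app_zero]; rfl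

theorem lin2_zero {f : ℕ → ℕ → ℕ} (hf : ∀ a b a' b', f (a ^^^ a') (b ^^^ b') = f a b ^^^ f a' b')
    (h : allN 11 (fun i => andB (Nat.beq (f (2 ^ i) 0) 0) (Nat.beq (f 0 (2 ^ i)) 0)) = true) :
    ∀ a < 2048, ∀ b < 2048, f a b = 0 := fun a ha b hb => by
  have h' := fun i hi => (andB_eq_true _ _).1 (allN_spec h i hi)
  have h1 := lin_ext (n := 11) (f := fun a => f a 0) (g := fun _ => 0) (fun a _ b _ => hf a 0 b 0) (fun _ _ _ _ => rfl)
    (fun i hi => Nat.eq_of_beq_eq_true (h' i hi).1) a ha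
  have h2 := lin_ext (n := 11) (f := fun a => f 0 a) (g := fun _ => 0) (fun a _ b _ => hf 0 a 0 b) (fun _ _ _ _ => rfl)
    (fun i hi => Nat.eq_of_beq_eq_true (h' i hi).2) b hb
  have := hf a 0 0 b
  rw [Nat.xor_zero, Nat.zero_xor] at this
  exact this.trans (by rw [show f a 0 = 0 from h1, show f 0 b = 0 from h2]; rfl)

def L1 : List (List ℕ × ℕ) := [([1, 1], 0x4f00000000a00000000a000000),
  ([0, 0, 0, 0, 0], 0x42000003000000000000000001),
  ([0, 1, 0, 1, 0, 0, 1, 0, 1, 0, 0, 1, 0, 1, 0, 0, 1, 0, 1, 0], 0x45),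
  ([0, 0, 1, 0, 1, 0, 0, 0, 1, 0, 1, 0, 0, 0, 1, 0, 1, 0, 0, 0, 1, 0, 1, 0], 0xa00000000000000000000000000000a)]

def L2 : List (List ℕ × ℕ) := [([1, 1], 0x480052000000010000000002000000),
  ([0, 0, 0, 0, 0], 0x0),
  ([0, 1, 0, 1, 0, 0, 1, 0, 1, 0, 0, 1, 0, 1, 0, 0, 1, 0, 1, 0], 0x0),
  ([0, 0, 1, 0, 1, 0, 0, 0, 1, 0, 1, 0, 0, 0, 1, 0, 1, 0, 0, 0, 1, 0, 1, 0], 0xc2000000000000000000000000000000)]

def nn (a b : ℕ) : ℕ := app 0x8a18a2703cc000038182000000000000 a ^^^ app 0x7341e00000003100002bc1b8000000 b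

def ee (a b : ℕ) : ℕ := app 0x3000003003000000000000000000000 a ^^^ app 0x2002000000003000003000000002 b

theorem app_lt_pow {c k : ℕ} (h : ∀ i < 11, col c i < 2 ^ k) : ∀ v < 2048, app c v < 2 ^ k :=
  xind (n := 11) (P := fun v => app c v < 2 ^ k) (by simp [app_zero]) (fun i hi => by
    simpa [app_pow c (hi.trans (by decide : 11 < 12))] using h i hi)
    fun a _ b _ h1 h2 => by simpa [app_xor] using Nat.xor_lt_two_pow h1 h2

theorem cocycle {a b : ℕ} (ha : a < 2048) (hb : b < 2048) (h : ∀ e ∈ L1, runC a b e.1 0 = 0) :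
    ∃ n < 2048, ∃ e < 4, a = n ^^^ app M1 n ^^^ app 0x721 e ∧ b = n ^^^ app M2 n ^^^ app 0x11b4 e := by
  have hn : ∀ a b a' b', nn (a ^^^ a') (b ^^^ b') = nn a b ^^^ nn a' b' := fun a b a' b' => by
    simp only [nn, app_xor]; ac_rfl
  have he : ∀ a b a' b', ee (a ^^^ a') (b ^^^ b') = ee a b ^^^ ee a' b' := fun a b a' b' => by
    simp only [ee, app_xor]; ac_rfl
  have h1 := lin2_zero (f := fun a b => a ^^^ (nn a b ^^^ app M1 (nn a b) ^^^ app 0x721 (ee a b)) ^^^ sumA a b L1)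
    (fun a b a' b' => by simp only [hn, he, sumA_xor, app_xor]; ac_rfl) (by decide +kernel) a ha b hb
  have h2 := lin2_zero (f := fun a b => b ^^^ (nn a b ^^^ app M2 (nn a b) ^^^ app 0x11b4 (ee a b)) ^^^ sumA a b L2)
    (fun a b a' b' => by simp only [hn, he, sumA_xor, app_xor]; ac_rfl) (by decide +kernel) a ha b hb
  have h3 : ∀ e ∈ L2, ∃ e' ∈ L1, e'.1 = e.1 := by decide +kernel
  simp only [sumA_zero h, Nat.xor_zero, Nat.xor_eq_zero_iff] at h1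
  simp only [sumA_zero (L := L2) fun e he => let ⟨e', h4, h5⟩ := h3 e he; h5 ▸ h e' h4, Nat.xor_zero,
    Nat.xor_eq_zero_iff] at h2
  exact ⟨nn a b, Nat.xor_lt_two_pow (n := 11) (app_lt_pow (by decide +kernel) a ha) (app_lt_pow (by decide +kernel) b hb),
    ee a b, Nat.xor_lt_two_pow (n := 2) (app_lt_pow (by decide +kernel) a ha) (app_lt_pow (by decide +kernel) b hb), h1, h2⟩

/-- Every lift of the sextet group is, up to an automorphism of `K` and the sign twist, the standard one. -/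
theorem classify {α : ℕ → K} (h : ∀ x < 2, J4C.ψ (α x) = J4C.ψ (gg x))
    (hr : ∀ w : List ℕ, (∀ x ∈ w, x < 2) → ev gg w = 1 → ev α w = 1) :
    ∃ σ : K →* K, (∀ k, J4C.ψ (σ k) = J4C.ψ k) ∧ (∀ v ∈ V, σ v = v) ∧ σ (gg 0) = α 0 ∧
      (σ (gg 1) = α 1 ∨ σ (gg 1) = v0 * α 1) := by
  have hc : ∀ e ∈ L1, (∀ x ∈ e.1, x < 2) ∧ allL [renW gws e.1] (fun w => allL [0, 1, 2, 3] fun b =>
    Nat.beq (runA J4L.actK w b) b) = true := by decide +kernel
  obtain ⟨n, hn, e, he, h1, h2⟩ := cocycle (co_lt (α 0)) (co_lt (α 1)) fun e he => by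
    rw [← runC_ev h (hc e he).1 0 (by decide), hr _ (hc e he).1 (by
      rw [gg, ev_renG]; exact J4L.paK.rels (hc e he).2 _ List.mem_cons_self), co_one, lm_zero]; rfl
  obtain ⟨v, hv, rfl⟩ := exists_vec hn
  have key : ∀ β : K →* K, (∀ k, J4C.ψ (β k) = J4C.ψ k) → β (J4L.yK 3) = J4L.yK 3 →
      co (α 0) = co v ^^^ app M1 (co v) ^^^ co (β (gg 0)) → (co (α 1) = co v ^^^ app M2 (co v) ^^^ co (β (gg 1)) ∨
        co (α 1) = co v ^^^ app M2 (co v) ^^^ (co (β (gg 1)) ^^^ 1)) → _ := fun β b1 b2 b3 b4 => by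
    have e1 : ∀ k, J4C.ψ (v * β k * v⁻¹) = J4C.ψ k := fun k => by
      rw [map_mul, map_mul, map_inv, MonoidHom.mem_ker.1 hv, b1]; simp
    have e2 : ∀ x < 2, co (v * β (gg x) * v⁻¹) = co v ^^^ app (sel M1 M2 x) (co v) ^^^ co (β (gg x)) := fun x hx => by
      rw [mul_assoc, co_V_mul hv, co_mul, co_inv_V hv, lm_of_ψ (b1 _), lm_gg hx (co_lt v), Nat.xor_assoc]
    have e3 : ∀ u ∈ V, β u = u := by
      have t1 : J4L.yK 3 ∈ V := (show ev J4L.yK [3] ∈ V from mem_V_ev (by decide +kernel))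
      have t2 : ∀ k, β (k * J4L.yK 3 * k⁻¹) = k * J4L.yK 3 * k⁻¹ := fun k => by
        rw [map_mul, map_mul, map_inv, b2]
        exact ext_V (V_normal.conj_mem _ t1 _) (V_normal.conj_mem _ t1 _) (by
          rw [co_conj _ t1, co_conj _ t1, lm_of_ψ (b1 k)])
      have t3 : ∀ k, β (k * v0 * k⁻¹) = k * v0 * k⁻¹ := fun k => by
        have := t2 (k * cu⁻¹)
        rw [v0_eq, show J4C.t = J4L.yK 3 from ev_one _ _]
        simpa [mul_assoc] using this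
      intro u hu
      have t4 : ∀ i < 11, ∃ k, lm k 1 = 2 ^ i := fun i hi => by
        rcases orbs (n := 2 ^ i) (Nat.pow_lt_pow_right (by decide) hi) with t | t | ⟨k, t⟩
        · exact absurd t (by positivity)
        · exact t
        · have t5 : (orbRun J4C.nets (sing (List.range 4)) [0, 1, 0, 1, 0, 1, 0, 1, 0, 1, 0, 1, 0, 1, 0, 1, 0, 1, 0, 1, 0, 1, 0, 1, 0, 1, 0, 1] (Nat.shiftLeft 1 36)).testBit (J4C.ψ k 36) = true := by
            rw [testBit_of_chkClosed J4C.rX.ok (ws := sing (List.range 4)) (by decide +kernel)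
              (J4C.rX.map_top.le (Subgroup.mem_map_of_mem _ trivial))]
            decide +kernel
          rw [lm, show icr 315 = 36 by decide +kernel] at t
          rw [← icr_crd (J4C.rX.lt k (i := 36) (by decide)), t] at t5
          exfalso; revert t5; clear t; revert i; decide +kernel
      refine xind (n := 11) (P := fun n => ∀ u ∈ V, co u = n → β u = u) (fun u hu e => by rw [eq_one hu e, map_one])
        (fun i hi u hu e => ?_) (fun a ha b hb h4 h5 u hu e => ?_) _ (co_lt u) u hu rfl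
      · obtain ⟨k, t⟩ := t4 i hi
        rw [ext_V hu (V_normal.conj_mem _ v0_V k) (by rw [co_conj _ v0_V, co_v0, t, e]), t3]
      · obtain ⟨p, hp, rfl⟩ := exists_vec ha
        obtain ⟨q, hq, rfl⟩ := exists_vec hb
        rw [ext_V hu (V.mul_mem hp hq) (by rw [e, co_V_mul hp]), map_mul, h4 p hp rfl, h5 q hq rfl]
    refine (⟨(MulAut.conj v).toMonoidHom.comp β, e1, fun u hu => ?_, ?_, ?_⟩ : ∃ σ : K →* K,
      (∀ k, J4C.ψ (σ k) = J4C.ψ k) ∧ (∀ v ∈ V, σ v = v) ∧ σ (gg 0) = α 0 ∧ (σ (gg 1) = α 1 ∨ σ (gg 1) = v0 * α 1))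
    · show v * β u * v⁻¹ = u
      rw [e3 u hu, V_comm hv hu, mul_inv_cancel_right]
    · exact ext_co (mul_inv_mem ((e1 _).trans (h 0 (by decide)).symm)) ((e2 0 (by decide)).trans b3.symm)
    · refine b4.imp (fun b4 => ext_co (mul_inv_mem ((e1 _).trans (h 1 (by decide)).symm))
        ((e2 1 (by decide)).trans b4.symm)) fun b4 => ext_co (mul_inv_mem ((e1 _).trans ?_))
          ((e2 1 (by decide)).trans ?_)
      · rw [map_mul, MonoidHom.mem_ker.1 v0_V, one_mul, h 1 (by decide)]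
      · rw [co_V_mul v0_V, co_v0, b4, Nat.xor_comm 1, Nat.xor_assoc _ _ 1, Nat.xor_xor_cancel_right]; rfl
  obtain ⟨β, b1, b2⟩ := exists_end [[0, 3, 2, 0, 1, 0, 2, 0, 1, 0, 3, 0, 2, 0, 1, 0, 2, 0, 1], [1], [2], [3]] (by decide +kernel) (by decide +kernel)
  have b3 : β (J4L.yK 3) = J4L.yK 3 := b2 [3] rfl
  have b4 : co (β (gg 0)) = 1825 := by rw [gg, renG, b2 _ (by decide +kernel), co_ev]; decide +kernel
  have b5 : co (β (gg 1)) = 436 := by rw [gg, renG, b2 _ (by decide +kernel), co_ev]; decide +kernel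
  have c0 : co (MonoidHom.id K (gg 0)) = 0 := co_gg (by decide)
  have c1 : co (MonoidHom.id K (gg 1)) = 0 := co_gg (by decide)
  interval_cases e
  · exact key (MonoidHom.id K) (fun _ => rfl) rfl (by rw [c0]; exact h1) (.inl (by rw [c1]; exact h2))
  · exact key β b1 b3 (by rw [b4]; exact h1) (.inl (by rw [b5]; exact h2))
  · exact key (MonoidHom.id K) (fun _ => rfl) rfl (by rw [c0]; exact h1) (.inr (by rw [c1]; exact h2))
  · exact key β b1 b3 (by rw [b4]; exact h1) (.inr (by rw [b5]; exact h2))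

/-- The subgroup of index 2 in `H0`. -/
theorem exists_sign : ∃ M : Subgroup H0, M.index = 2 ∧ (∀ v (h : ι v ∈ H0), v ∈ V → ⟨ι v, h⟩ ∈ M) ∧
    ⟨ι (gg 0), mem_H0.2 (gg_mem 0)⟩ ∈ M ∧ ⟨ι (gg 1), mem_H0.2 (gg_mem 1)⟩ ∉ M := by
  obtain ⟨M, hM⟩ : ∃ M : Subgroup H0, M.index = 2 := by
    obtain ⟨e⟩ := Ct.cent_congr (MulAut.conj (ι cu)⁻¹) (J4C.Y 0)
    obtain ⟨-, -, M, -, -, -, -, -, -, -, h3, -⟩ := J4C.struct
    rw [H0, ← Y0]
    exact ⟨M.map e.toMonoidHom, (M.index_map_equiv e).trans h3⟩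
  let S : Subgroup K := (M.map H0.subtype).comap ι
  have hS : ∀ {k} (h : ι k ∈ H0), k ∈ S ↔ ⟨ι k, h⟩ ∈ M := fun h =>
    ⟨fun ⟨_, h1, h2⟩ => (Subtype.ext h2 : _ = (⟨_, h⟩ : H0)) ▸ h1, fun h1 => ⟨_, h1, rfl⟩⟩
  have h2 : ∀ {a b}, a ∈ B0 → b ∈ B0 → (a * b ∈ S ↔ (a ∈ S ↔ b ∈ S)) := fun {a b} ha hb => by
    rw [hS (mem_H0.2 ha), hS (mem_H0.2 hb), hS (mem_H0.2 (B0.mul_mem ha hb)), ← Subgroup.mul_mem_iff_of_index_two hM]
    exact iff_of_eq (congrArg _ (Subtype.ext (ι.map_mul a b)))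
  have h3 : ∀ x < 2, ∀ n < 2048, ∃ v ∈ V, v ∈ S ∧ co v = app (sel M1 M2 x) n ^^^ n := fun x hx n hn => by
    obtain ⟨v, hv, rfl⟩ := exists_vec hn
    have h4 := V_normal.conj_mem v hv (gg x)
    refine ⟨_, V.mul_mem h4 hv, ?_, by rw [co_V_mul h4, co_conj _ hv, lm_gg hx hn]⟩
    rw [h2 (V_le_B0 h4) (V_le_B0 hv), h2 (B0.mul_mem (gg_mem x) (V_le_B0 hv)) (B0.inv_mem (gg_mem x)),
      h2 (gg_mem x) (V_le_B0 hv), S.inv_mem_iff]
    tauto
  have hV : V ≤ S := fun u hu => by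
    refine xind (n := 11) (P := fun n => ∀ u ∈ V, co u = n → u ∈ S) (fun u hu e => eq_one hu e ▸ S.one_mem)
      (fun i hi u hu e => ?_) (fun a ha b hb h4 h5 u hu e => ?_) _ (co_lt u) u hu rfl
    · have hc : ∀ i < 11, getL [6, 16, 16, 1692, 40, 1716, 1678, 1562, 1548, 50, 1192] 0 i < 2048 ∧ getL [66, 82, 80, 82, 66, 0, 18, 64, 2, 2, 66] 0 i < 2048 ∧
        2 ^ i = app M1 (getL [6, 16, 16, 1692, 40, 1716, 1678, 1562, 1548, 50, 1192] 0 i) ^^^ getL [6, 16, 16, 1692, 40, 1716, 1678, 1562, 1548, 50, 1192] 0 i ^^^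
          (app M2 (getL [66, 82, 80, 82, 66, 0, 18, 64, 2, 2, 66] 0 i) ^^^ getL [66, 82, 80, 82, 66, 0, 18, 64, 2, 2, 66] 0 i) := by decide +kernel
      obtain ⟨p, hp, p1, p2⟩ := h3 0 (by decide) _ (hc i hi).1
      obtain ⟨q, hq, q1, q2⟩ := h3 1 (by decide) _ (hc i hi).2.1
      rw [ext_V hu (V.mul_mem hp hq) (by rw [e, co_V_mul hp, p2, q2]; exact (hc i hi).2.2)]
      exact S.mul_mem p1 q1
    · obtain ⟨p, hp, rfl⟩ := exists_vec ha
      obtain ⟨q, hq, rfl⟩ := exists_vec hb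
      rw [ext_V hu (V.mul_mem hp hq) (by rw [e, co_V_mul hp])]
      exact S.mul_mem (h4 p hp rfl) (h5 q hq rfl)
  have g0 : gg 0 ∈ S := by
    have e : gg 0 * gg 0 * (gg 0 * gg 0) * gg 0 = 1 := by
      have := J4L.paK.rels (ws := [renW gws [0, 0, 0, 0, 0]]) (by decide +kernel) _ List.mem_cons_self
      rw [← ev_renG] at this
      simpa [gg, mul_assoc] using this
    have h4 := (h2 (gg_mem 0) (gg_mem 0)).2 Iff.rfl
    rw [eq_inv_of_mul_eq_one_right e]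
    exact S.inv_mem (S.mul_mem h4 h4)
  refine ⟨M, hM, fun v h hv => (hS h).1 (hV hv), (hS _).1 g0, fun g1 => ?_⟩
  have h4 := B0_le hV fun x hx => by interval_cases x; exacts [g0, (hS _).2 g1]
  have h5 : (⟨T, T_mem⟩ : H0) ∈ M := by
    have a1 := (show CW (ev J4L.yK [3]) from CW_ev (by decide +kernel)).mem
    have a2 := (CW_ev (w := [0, 1, 0, 1, 0, 3, 0, 1, 0, 1, 0, 3, 0, 1, 0, 2, 0, 1, 0, 2, 0, 2, 0, 2, 0, 1, 0, 1, 0, 2, 0, 1, 0, 2, 0, 2, 0, 1, 0, 1, 0, 2, 0, 2, 0, 2, 0, 1, 0, 1, 0, 1, 0, 2, 0]) (by decide +kernel)).mem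
    have a3 := (hS (mem_H0.2 a1)).1 (h4 a1)
    have a4 := (hS (mem_H0.2 a2)).1 (h4 a2)
    have a5 := (congrArg (· ∈ M) (Subtype.ext tri : ⟨T, T_mem⟩ * ⟨_, mem_H0.2 a1⟩ * ⟨T, T_mem⟩ * ⟨_, mem_H0.2 a1⟩ *
      ⟨T, T_mem⟩ * ⟨_, mem_H0.2 a2⟩ = (1 : H0))).mpr M.one_mem
    simp only [Subgroup.mul_mem_iff_of_index_two hM, a3, a4] at a5
    tauto
  have h6 : H0 ≤ M.map H0.subtype := H0_le (fun b hb => h4 hb) ⟨_, h5, rfl⟩
  have h7 : M = ⊤ := eq_top_iff.2 fun x _ => let ⟨_, h, e⟩ := h6 x.2; Subtype.ext e ▸ h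
  rw [h7, Subgroup.index_top] at hM
  exact absurd hM (by decide)

/-- The sign twist. -/
theorem exists_twist : ∃ γ : H0 ≃* H0, (∀ v (h : ι v ∈ H0), v ∈ V → γ ⟨ι v, h⟩ = ⟨ι v, h⟩) ∧
    γ ⟨ι (gg 0), mem_H0.2 (gg_mem 0)⟩ = ⟨ι (gg 0), mem_H0.2 (gg_mem 0)⟩ ∧
    γ ⟨ι (gg 1), mem_H0.2 (gg_mem 1)⟩ = ⟨z0, z0_mem⟩ * ⟨ι (gg 1), mem_H0.2 (gg_mem 1)⟩ := by
  classical
  obtain ⟨M, hM, h1, h2, h3⟩ := exists_sign
  let z : H0 := ⟨z0, z0_mem⟩
  have zM : z ∈ M := h1 v0 z0_mem v0_V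
  have zc : ∀ a : H0, a * z = z * a := fun a => Subtype.ext (Subgroup.mem_centralizer_singleton_iff.1 a.2)
  have zz : z * z = 1 := Subtype.ext (show ι v0 * ι v0 = 1 by rw [← map_mul, V_sq v0_V, map_one])
  let f : H0 → H0 := fun a => if a ∈ M then a else z * a
  have f1 : ∀ a ∈ M, f a = a := fun a h => if_pos h
  have f2 : ∀ a ∉ M, f a = z * a := fun a h => if_neg h
  have ff : ∀ a, f (f a) = a := fun a => by
    by_cases h : a ∈ M
    · rw [f1 a h, f1 a h]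
    · rw [f2 a h, f2 _ fun h' => h ((M.mul_mem_cancel_left zM).1 h'), ← mul_assoc, zz, one_mul]
  refine ⟨⟨⟨f, f, ff, ff⟩, fun a b => show f (a * b) = f a * f b from ?_⟩, fun v h hv => f1 _ (h1 v h hv), f1 _ h2, f2 _ h3⟩
  have := Subgroup.mul_mem_iff_of_index_two hM (a := a) (b := b)
  by_cases ha : a ∈ M <;> by_cases hb : b ∈ M
  · rw [f1 a ha, f1 b hb, f1 _ (by tauto)]
  · rw [f1 a ha, f2 b hb, f2 _ (by tauto), ← mul_assoc, ← mul_assoc, zc]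
  · rw [f2 a ha, f1 b hb, f2 _ (by tauto), mul_assoc]
  · rw [f2 a ha, f2 b hb, f1 _ (by tauto), ← zc a, mul_assoc, ← mul_assoc z, zz, one_mul]

end Cfsg.Agent.J4T.C
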