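import Cfsg.Agent.J4T.N
import Cfsg.Agent.J4T.A1
import Cfsg.Agent.J4T.A2
import Cfsg.Agent.J4T.CS
import Cfsg.Agent.J4T.CT
import Cfsg.Agent.J4F.Two
import Cfsg.Agent.SporD.LemD

/-! Recognition of `J₄` from the centraliser of a `2`-central involution (`Hyp.main`, `main`). -/

set_option autoImplicit false

namespace Cfsg.Agent.J4T
open Cfsg.Agent.Comp Subgroup Cfsg.Agent.Invol Cfsg.Agent.J4F

variable {G : Type*} [Group G] [Finite G] {z : G}

theorem Hyp.exists_Bt [IsSimpleGroup G] {P : Subgroup G} (h : Hyp z P) :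
    ∃ p θ μ x ν, Bt z p θ μ x ν 3 ∧ ∃ y, VR ν cY y := by
  obtain ⟨p, θ, μ, S, -⟩ := h.exists_St
  obtain ⟨x, ν, f, B⟩ := S.exists_Bt
  obtain ⟨g, hg⟩ := S.fused
  obtain ⟨rfl, hy⟩ := B.exists_y hg
  exact ⟨p, θ, μ, x, ν, B, hy⟩

theorem V0_sq : ∀ v ∈ V0, v * v = 1 := by
  rintro _ ⟨v, hv, rfl⟩; rw [← map_mul, C.V_sq hv, map_one]

section
variable {p : G} {θ : ℕ → G} {μ : centralizer ({z} : Set G) →* MulAut (XV 12)} {x : ℕ → G} {ν : XV 11 →* G}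
  (B : Bt z p θ μ x ν 3) (hy : ∃ y, VR ν cY y)
include B hy

theorem Bt.exists_j : ∃ j : Cfsg.Spor.J4 →* G, centralizer {z} ≤ j.range ∧ normalizer (ν.range : Set G) ≤ j.range ∧
    j z0 = z ∧ V0.map j = ν.range := by
  have := Spor.J4G.simple
  obtain ⟨p0, θ0, μ0, x0, ν0, B0, hy0⟩ := (Hyp.of isType).exists_Bt
  obtain ⟨h, hh, hV⟩ := B0.conj_V (K := H0) (map_subtype_le _) (by rw [card_H0]; norm_num) V0_le_H0 V0_sq card_V0
  obtain ⟨α, hα⟩ := a2 B0 B hy0 hy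
  let φ : H0 →* G := (Subgroup.subtype _).comp (α.toMonoidHom.comp (MulAut.conj (⟨h, hh⟩ : H0)).toMonoidHom)
  have e1 : ∀ (v : H0) a, h * v * h⁻¹ = ν0 a → φ v = ν a := fun v a e => by
    rw [← hα]; exact congrArg (fun t => (α t).1) (Subtype.ext e)
  have e2 : ∀ v ∈ V0, ∃ a, ν0 a = h * v * h⁻¹ := fun v hv => (hV.le ⟨v, hv, rfl⟩ :)
  have e3 : (V0.subgroupOf H0).map φ = ν.range := le_antisymm (by
    rintro _ ⟨v, hv, rfl⟩; obtain ⟨a, ha⟩ := e2 v hv; exact ⟨a, (e1 v a ha.symm).symm⟩) (by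
    rintro _ ⟨a, rfl⟩; obtain ⟨v, hv, e⟩ := hV.ge ⟨a, rfl⟩; exact ⟨⟨v, V0_le_H0 hv⟩, hv, e1 _ a e⟩)
  have e4 : φ ⟨z0, z0_mem⟩ = z := (e1 _ _ (by
    rw [B0.νz]; exact mul_inv_eq_iff_eq_mul.2 (mem_centralizer_singleton_iff.1 hh))).trans B.νz
  have e5 : φ.range = centralizer {z} := by
    rw [MonoidHom.range_comp, MonoidHom.range_eq_top.2 (α.surjective.comp (MulAut.conj _).surjective),
      ← MonoidHom.range_eq_map, range_subtype]
  have key : ∀ (n : G) (k : K) (a : MulAut (XV 11)), (∀ v, n * ν v * n⁻¹ = ν (a v)) →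
      (∀ v, h * ι k * h⁻¹ * ν0 v * (h * ι k * h⁻¹)⁻¹ = ν0 (a v)) → ∀ v w : H0, (v : Cfsg.Spor.J4) ∈ V0 →
      (w : Cfsg.Spor.J4) = ι k * v * (ι k)⁻¹ → n * φ v * n⁻¹ = φ w := fun n k a h1 h2 v w hv e => by
    obtain ⟨b, hb⟩ := e2 v hv
    rw [e1 v b hb.symm, h1, e1 w (a b) (by rw [← h2, hb, e]; group)]
  have e6 : ∀ g, h * g * h⁻¹ ∈ normalizer (ν0.range : Set Cfsg.Spor.J4) ↔ g ∈ N0 := fun g => by
    rw [← norm_V0, ← hV, ← map_equiv_normalizer_eq, mem_map_conj_iff]; simp [mul_assoc]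
  obtain ⟨j, j1, j2, -, j3, j4⟩ := stepC φ (Subtype.val_injective.comp (α.injective.comp (MulAut.conj _).injective))
    (by rw [e4, e5]) (fun n hn => by
      obtain ⟨a, ha, h1⟩ := B.autom hy (e3 ▸ hn)
      obtain ⟨m, hm⟩ := B0.real hy0 ha
      obtain ⟨k, hk⟩ := (e6 (h⁻¹ * m * h)).1 (by simpa [mul_assoc] using actIn_norm ⟨a, ha, hm⟩)
      exact ⟨k, key n k a h1 (by simpa [hk, mul_assoc] using hm)⟩) fun k => by
      obtain ⟨a, ha, h1⟩ := B0.autom hy0 ((e6 _).2 ⟨k, rfl⟩)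
      obtain ⟨n, hn⟩ := B.real hy ha
      exact ⟨n, key n k a hn h1⟩
  exact ⟨j, e5 ▸ j1, e3 ▸ j2, j3.trans e4, j4.trans e3⟩

theorem Bt.main : ∃ e : G ≃* Cfsg.Spor.J4, e z = z0 := by
  have := Spor.J4G.simple
  obtain ⟨j, j1, j2, j3, j4⟩ := B.exists_j hy
  have inj : Function.Injective j := (MonoidHom.ker_eq_bot_iff j).1 (j.normal_ker.eq_bot_or_eq_top.resolve_right
    fun e => B.toSt.z1 (j3 ▸ (show z0 ∈ j.ker from e ▸ mem_top _)))
  have hN : normalizer (ν.range : Set G) ≤ N0.map j := fun g hg => by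
    obtain ⟨g, rfl⟩ := j2 hg
    refine ⟨g, norm_V0 ▸ mem_normalizer_fintype fun v hv => ?_, rfl⟩
    obtain ⟨w, hw, e⟩ := j4.ge ((mem_normalizer_iff.1 hg _).1 (j4.le ⟨v, hv, rfl⟩))
    exact inj (show j w = j (g * v * g⁻¹) by rw [e, map_mul, map_mul, map_inv]) ▸ hw
  have cN : Nat.card (normalizer (ν.range : Set G)) ∣ 501397585920 := by
    have := card_dvd_of_le hN
    rwa [card_map_of_injective inj, N0, Spor.J4G.main.2.2.2.1] at this
  have ot : orderOf (j t0) = 2 := by rw [orderOf_injective j inj, ord_t0]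
  have tV : j t0 ∈ ν.range := j4.le ⟨_, ⟨_, tv0_mem, rfl⟩, rfl⟩
  have nz : ¬ IsConj z (j t0) := fun h => by
    obtain ⟨v, hv⟩ := tV
    obtain ⟨n, hn, e | e⟩ := B.orbN hy (v := v) (by rintro rfl; exact ne_one_of ot (hv.symm.trans (map_one ν)))
    · obtain ⟨n, rfl⟩ := j2 (actIn_norm hn)
      exact not_conj_z0_t0 (isConj_iff.2 ⟨n, inj (by rw [map_mul, map_mul, map_inv, j3, e, hv])⟩)
    · exact B.toSt.not_fused (h.trans (isConj_iff.2 ⟨n, e.1.trans hv⟩).symm)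
  have cls : ∀ s ∈ j.range, orderOf s = 2 → ∃ m ∈ j.range, m * z * m⁻¹ = s ∨ m * j t0 * m⁻¹ = s := by
    rintro _ ⟨s, rfl⟩ hs
    rcases two_classes ((orderOf_injective j inj s).symm.trans hs) with h | h <;> obtain ⟨m, rfl⟩ := isConj_iff.1 h
    exacts [⟨_, ⟨m, rfl⟩, Or.inl (by simp [j3])⟩, ⟨_, ⟨m, rfl⟩, Or.inr (by simp)⟩]
  have fin : ∀ r, centralizer {r} ≤ j.range → ∀ s g, ∀ m ∈ j.range, ∀ m' ∈ j.range, m * r * m⁻¹ = s →
      m' * r * m'⁻¹ = g * s * g⁻¹ → g ∈ j.range := fun r hr s g m hm m' hm' e e' =>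
    (mul_mem_cancel_right hm).1 ((mul_mem_cancel_left (inv_mem hm')).1 (hr (mem_centralizer_singleton_iff.2 (by
      calc _ = m'⁻¹ * (g * (m * r * m⁻¹) * g⁻¹) * (g * m) := by group
        _ = _ := by rw [e, ← e']; group))))
  have ctl : ∀ s ∈ j.range, orderOf s = 2 → (IsConj z s ∨ centralizer {j t0} ≤ j.range) →
      ∀ g, g * s * g⁻¹ ∈ j.range → g ∈ j.range := fun s hs os h g hg => by
    have c : IsConj s (g * s * g⁻¹) := isConj_iff.2 ⟨g, rfl⟩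
    obtain ⟨m, hm, e | e⟩ := cls s hs os <;> obtain ⟨m', hm', e' | e'⟩ := cls _ hg ((orderOf_conj' g s).trans os)
    · exact fin z j1 s g m hm m' hm' e e'
    · exact absurd (((isConj_iff.2 ⟨m, e⟩).trans c).trans (isConj_iff.2 ⟨m', e'⟩).symm) nz
    · exact absurd (((isConj_iff.2 ⟨m', e'⟩).trans c.symm).trans (isConj_iff.2 ⟨m, e⟩).symm) nz
    · exact fin _ (h.resolve_left fun h => nz (h.trans (isConj_iff.2 ⟨m, e⟩).symm)) s g m hm m' hm' e e'
  have sq : ∀ v ∈ ν.range, v * v = 1 := by rintro _ ⟨v, rfl⟩; rw [← map_mul, ← pow_two, XV.sq, map_one]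
  have ct : centralizer {j t0} ≤ j.range := SporD.lemD {s | IsConj z s} (a := 4) sq j2
    (fun s hs hv => ctl s (j2 (le_normalizer hv)) ((orderOf_of_isConj hs).symm.trans B.toSt.oz) (Or.inl hs))
    (fun g hg => by
      obtain ⟨n, hn, e⟩ := B.conj_V (A := ν.range.map (MulAut.conj g).toMonoidHom) B.TT_le
        (fun h => absurd (h.trans cN) (by norm_num)) (by rintro _ ⟨v, hv, rfl⟩; exact hg v hv)
        (by rintro _ ⟨v, hv, rfl⟩; rw [← map_mul, sq v hv, map_one]) (by rw [Invol.card_map_conj, B.card_V]; rfl)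
      exact (mul_mem_cancel_left hn).1 (mem_normalizer_fintype fun v hv => e.le ⟨_, ⟨v, hv, rfl⟩, by simp [mul_assoc]⟩))
    (by
      rintro v hv v1 vz _ ⟨g, rfl⟩ hc
      obtain ⟨_, ⟨u, hu, rfl⟩, rfl⟩ := j4.ge hv
      rcases V_orb u hu with rfl | h | h
      · simp at v1
      · exact absurd (j3 ▸ j.map_isConj (ι.map_isConj h)) vz
      obtain ⟨k, rfl⟩ := isConj_iff.1 h
      have h1 : g * ι (k * tv0 * k⁻¹) = ι (k * tv0 * k⁻¹) * g := inj (by rw [map_mul j, map_mul j]; exact hc)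
      have h2 := cent_t0 (show (ι k)⁻¹ * g * ι k ∈ _ from mem_centralizer_singleton_iff.2 (by
        calc _ = (ι k)⁻¹ * (g * ι (k * tv0 * k⁻¹)) * ι k := by simp [t0, mul_assoc]
          _ = _ := by rw [h1]; simp [t0, mul_assoc]))
      have hk : ι k ∈ N0 := ⟨k, rfl⟩
      rw [mul_mem_cancel_right hk, mul_mem_cancel_left (inv_mem hk), ← norm_V0] at h2
      exact j4 ▸ le_normalizer_map j ⟨g, h2, rfl⟩)
    (fun W hW h => B.card_le_four hy hW h) (by rw [B.card_V]; norm_num)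
    (fun k m h1 h2 h3 h => by
      have := h.trans cN
      rw [B.card_V] at h3
      interval_cases k
      · obtain rfl : m = 1024 := by omega
        norm_num at this
      · omega
      · obtain rfl : m = 512 := by omega
        norm_num at this) tV (ne_one_of ot)
  have top := SporD.eq_top_of_unfused (fun s hs os => ctl s hs os (Or.inr ct)) ⟨_, j3⟩ ⟨t0, rfl⟩ B.toSt.oz ot nz
  exact ⟨(MulEquiv.ofBijective j ⟨inj, MonoidHom.range_eq_top.1 top⟩).symm, (MulEquiv.symm_apply_eq _).2 j3.symm⟩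
end

variable [IsSimpleGroup G]

theorem Hyp.main {P : Subgroup G} (h : Hyp z P) : ∃ e : G ≃* Cfsg.Spor.J4, e z = z0 :=
  let ⟨_, _, _, _, _, B, hy⟩ := h.exists_Bt; B.main hy

theorem main (_ : ¬ IsMulCommutative G) (hJ : IsOfJankoFourTypeAt z) : ∃ e : G ≃* Cfsg.Spor.J4, e z = z0 :=
  let ⟨_, h⟩ := hJ; (Hyp.of h).main

end Cfsg.Agent.J4T
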