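import Cfsg.Agent.J4T.XsF
import Cfsg.Agent.LES.Pair
import Cfsg.Agent.S3300
import Cfsg.Agent.Transfer.Residual

/-! Step B, fusion of `z` in `E`: `St.inv_E`, `St.not_fused`, `St.fused`; for `s = z^g = θ s0` the groups `E ∩ E^g`
(`St.D`) and `E^g ∩ H` (`St.A`, `St.A'`). -/

set_option autoImplicit false

namespace Cfsg.Agent.J4T
open Cfsg.Agent.Comp Subgroup Cfsg.Agent.BG LES MulAction

def LD : List ℕ := [0, 117, 158, 235, 301, 344, 435, 454, 535, 610, 649, 764, 826, 847, 932, 977, 1049, 1132, 1159,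
  1266, 1332, 1345, 1450, 1503, 1550, 1659, 1680, 1765, 1827, 1878, 1981, 1992, 2086, 2131, 2232, 2253, 2315, 2430,
  2453, 2528, 2609, 2628, 2735, 2778, 2844, 2921, 2946, 3063, 3135, 3146, 3233, 3284, 3346, 3431, 3468, 3577, 3624,
  3677, 3766, 3779, 3845, 3952, 3995, 4078]
def LA : List ℕ := [0x800400200100080040020010008004002001, 0x16d3dbea1953e3692da645dc4faca5f8aa45,
  0x3a61fbcc3441b02d03806c0b411822ba4df8, 0xf20530620b3d0c604e0870c0e3071a0cf04,
  0x1902e04908e0a2ff3558aacf0e30710ec074, 0x7ce947cc3441f855ca020030c42483b4bd8d,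
  0xa2551fa535f23ba265b496c7ca9857dbcb68, 0x8ef49a200100407c0e80640d4faca546acd5,
  0xa5c5f8a535f2f85a4ff25a1f4faca51fa3a5, 0x7b39d1cc3441b9cde4c6a4bf0e3071f2f535,
  0xb626d16f2da1d92b719c0780008004a80540, 0x10a20f4908e020930e10d2068b0cd0850ca0,
  0x4e78790620b3d926e3a64fb8411822e877c9, 0x25e3a7831c12407809703901c424839f8e5c,
  0x3482c46f2da1d0cb0810d30b85b4f623412c, 0xb8d64b6f2da191573f1e639d4faca5ee8994,
  0x299177a535f2b9c678fcea8985b4f6d26b1d, 0x1ed2764908e0e3671b9c0e40c424834888cc,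
  0xbf46ac6f2da152af1558af45ca98572ae159, 0x182341ea1953ab15632421c1008004be2691,
  0x11433cea1953209107e08904ca98573cc288, 0x636b1b831c120800c0f2553a411822917e29,
  0x223331831c1201e027b49d8e0e3071d9c6e4, 0x8f0c50620b3915e2a242383c42483e687bc,
  0x72993ecc34413ba1df8edc768b0cd07939e1, 0x9a8754ea1953a2f51aa8f54a85b4f63562fd,
  0x89647d200100838424c6a8d5ca985782c418, 0x680bc0620b352aa3fa8ffc58b0cd02b03d0,
  0x2b93de831c12838c1cfce5478b0cd0520a30, 0x2a01520010001e0398ed49b85b4f68b646d,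
  0xab3562a535f2b02601703e02008004592f71, 0x585aca4908e0ab1fd21e627b4118224678b9]
def maskL (l : List ℕ) : ℕ → ℕ := List.rec (fun c => c) (fun a _ ih c => force (Nat.lor c (Nat.shiftLeft 1 a)) ih) l
theorem mem_of_mask {v : ℕ} (l : List ℕ) : ∀ c, (maskL l c).testBit v = true → c.testBit v = true ∨ v ∈ l := by
  induction l with
  | nil => exact fun _ => Or.inl
  | cons a l ih =>
    intro c h
    rcases ih _ (force_eq _ (maskL l) ▸ show (force (Nat.lor c (Nat.shiftLeft 1 a)) (maskL l)).testBit v = true from h) with h | h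
    · rw [show Nat.lor c (Nat.shiftLeft 1 a) = c ||| 2 ^ a by rw [← Nat.one_shiftLeft]; rfl, Nat.testBit_or,
        Bool.or_eq_true, Nat.testBit_two_pow, decide_eq_true_iff] at h
      exact h.imp id fun e : a = v => e ▸ List.mem_cons_self
    · exact Or.inr (List.mem_cons_of_mem _ h)

theorem orbsX (v : ℕ) (hv : v < 4096) (h : bt v v = 0) (h0 : v ≠ 0) : v ∈ orbV LX 700 s0 ∨ v ∈ orbV LX 1400 x0 := by
  have k : ∀ m, force m (fun m => allLt 64 fun a => allLt 64 fun b => force (Nat.add (Nat.mul 64 a) b) fun v =>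
      bor (Nat.beq (bt v v) 1) (tb m v)) = true → m.testBit v = true := fun m k => by
    rw [force_eq] at k
    have := all4096 k (fun _ h => h) v hv
    rwa [h, bor_eq, show Nat.beq 0 1 = false from rfl, Bool.false_or, tb_eq] at this
  rcases mem_of_mask _ _ (k (maskL (orbV LX 700 s0) (maskL (orbV LX 1400 x0) (2 ^ 0))) (by decide +kernel)) with h | h
  · exact Or.inr ((mem_of_mask _ _ h).resolve_left (by rw [Nat.testBit_two_pow, decide_eq_true_iff]; exact h0.symm))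
  · exact Or.inl h
def surv (s : ℕ) (w : List ℕ) : List ℕ := force (evalW mulM invM one12 LX w) fun t => filterL (fun c =>
  band (Nat.beq (app c s) s) (band (Nat.beq (mulM c c) one12) (commC mulM c (conjC mulM invM t c)))) LT

variable {G : Type*} [Group G] [Finite G] {z p : G} {θ : ℕ → G} {μ : centralizer ({z} : Set G) →* MulAut (XV 12)}

/-- image of `E^g ∩ H`. -/
abbrev AB (μ : centralizer ({z} : Set G) →* MulAut (XV 12)) (g : G) : Subgroup (MulAut (XV 12)) :=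
  ((cj g (twoCoreOfCentralizer z)).subgroupOf _).map μ

namespace St
variable (S : St z p θ μ)
include S

theorem θmod {x : ℕ} (hx : x < 8192) : θ x = θ (x % 4096) ∨ θ x = θ (x % 4096) * z := by
  rcases split_z hx with h | ⟨v, hv, rfl⟩
  · rw [Nat.mod_eq_of_lt h]; exact Or.inl rfl
  · rw [show (v ^^^ 4096) % 4096 = v from (Nat.xor_mod_two_pow (n := 12)).trans (by
      rw [Nat.mod_eq_of_lt hv]; exact Nat.xor_zero v), S.toFr.θz (by omega)]; exact Or.inr rfl

theorem ne_of {s : ℕ} (hs : s < 4096) (h0 : s ≠ 0) : θ s ≠ 1 ∧ θ s ≠ z :=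
  ⟨fun e => h0 (S.inj _ (by omega) _ (by omega) (e.trans S.toFr.θ0.symm)),
    fun e => by have := S.inj _ (by omega) _ (by omega) (e.trans S.hz.symm); omega⟩

theorem conj_of {s x : ℕ} (hs : s < 4096) (h0 : s ≠ 0) (hx : x < 8192) {a : MulAut (XV 12)} (ha : a ∈ Xs)
    (h : (a (XV.mk' 12 s)).val = x % 4096) : ∃ k : centralizer ({z} : Set G), μ k = a ∧ k * θ s * k⁻¹ = θ x := by
  obtain ⟨k, rfl⟩ := S.range.ge ha
  obtain ⟨c, hc⟩ := S.exists_IR k
  obtain ⟨q, hq, e⟩ := S.es.exists_conj (S.θE (x := s) (by omega)) (S.ne_of hs h0).1 (S.ne_of hs h0).2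
  obtain ⟨y, hy, rfl⟩ := (S.core _).1 hq
  have h1 : k * θ s * k⁻¹ = θ x ∨ k * θ s * k⁻¹ = θ x * z := by
    rw [hc.1.mk'_eq hs, XV.mk'_val (app_lt _ _)] at h
    rcases S.act k c hc.1 s (by omega) with e | e <;> rcases S.θmod hx with e' | e' <;> rw [e] <;>
      simp [e', h, S.toFr.θz (show x % 4096 < 8192 by omega), mul_assoc, S.toFr.zz]
  rcases h1 with h1 | h1
  · exact ⟨k, rfl, h1⟩
  · refine ⟨k * ⟨_, S.θH hy⟩, by rw [map_mul, S.μθ hy, mul_one], ?_⟩
    have := mem_centralizer_singleton_iff.1 k.2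
    calc _ = k * (θ y * θ s * (θ y)⁻¹) * (k : G)⁻¹ := by simp [mul_assoc]
      _ = k * θ s * (k : G)⁻¹ * (k * z * (k : G)⁻¹) := by rw [e]; group
      _ = _ := by rw [this, mul_inv_cancel_right, show (k : G) * θ s * (k : G)⁻¹ = _ from h1, mul_assoc, S.toFr.zz, mul_one]

theorem inv_E {x : ℕ} (hx : x < 8192) (h0 : x ≠ 0) (h1 : x ≠ 4096) (hq : bt x x = 0) :
    ∃ h ∈ centralizer ({z} : Set G), h * θ x * h⁻¹ = θ s0 ∨ h * θ x * h⁻¹ = θ x0 := by
  have k2 : bt (x % 4096) (x % 4096) = 0 := by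
    rcases split_z hx with h | ⟨v, hv, rfl⟩
    · rwa [Nat.mod_eq_of_lt h]
    · rw [show (v ^^^ 4096) % 4096 = v from (Nat.xor_mod_two_pow (n := 12)).trans (by
        rw [Nat.mod_eq_of_lt hv]; exact Nat.xor_zero v)]
      simpa [bt_xor, bt_xor', bt_z, bt_z'] using hq
  have f : ∀ {s n}, s < 4096 → s ≠ 0 → x % 4096 ∈ orbV LX n s → ∃ h ∈ centralizer ({z} : Set G), h * θ x * h⁻¹ = θ s :=
    fun hs s1 h => by
      obtain ⟨a, ha, e⟩ := orbV_reach codesX.toMR hs h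
      obtain ⟨k, -, e⟩ := S.conj_of hs s1 hx ha e
      exact ⟨_, inv_mem k.2, by rw [← e]; simp [mul_assoc]⟩
  rcases orbsX (x % 4096) (by omega) k2 (by omega) with h | h
  · exact (f (by decide) (by decide) h).imp fun _ h => ⟨h.1, Or.inl h.2⟩
  · exact (f (by decide) (by decide) h).imp fun _ h => ⟨h.1, Or.inr h.2⟩

section
variable {g : G} {s : ℕ} (hs : s < 4096) (h0 : s ≠ 0) (hg : g * z * g⁻¹ = θ s)
include hs h0 hg

theorem pair : Pair (cj g (twoCoreOfCentralizer z)) (twoCoreOfCentralizer z) (θ s) z := by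
  have := S.le.pair (g := g) (by rw [S.card_E]; norm_num) (hg ▸ S.θE (by omega)) (hg ▸ (S.ne_of hs h0).2)
  rw [hg] at this; exact this.symm

theorem D_comm {a b : G} (ha : a ∈ twoCoreOfCentralizer z ⊓ cj g (twoCoreOfCentralizer z))
    (hb : b ∈ twoCoreOfCentralizer z ⊓ cj g (twoCoreOfCentralizer z)) : Commute a b := by
  by_contra h
  exact (S.pair hs h0 hg).ne (mul_left_cancel ((S.es.conj_of_not ha.1 hb.1 h).symm.trans
    ((S.pair hs h0 hg).hQ.conj_of_not ha.2 hb.2 h)))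

theorem card_D : #(twoCoreOfCentralizer z ⊓ cj g (twoCoreOfCentralizer z)) ≤ 128 := by
  have h1 := S.es.card_cent (A := _ ⊓ cj g _) inf_le_left ⟨S.es.zQ, (S.pair hs h0 hg).sQ⟩
  have h2 := Nat.mul_le_mul_left #(twoCoreOfCentralizer z ⊓ cj g (twoCoreOfCentralizer z)) (card_le_of_le
    (le_inf inf_le_left fun a ha b hb => (S.D_comm hs h0 hg hb ha).eq :
      _ ≤ twoCoreOfCentralizer z ⊓ C[twoCoreOfCentralizer z ⊓ cj g (twoCoreOfCentralizer z)]))
  rw [h1, S.card_E] at h2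
  nlinarith

theorem card_AB : #(twoCoreOfCentralizer z ⊓ cj g (twoCoreOfCentralizer z)) * #(AB μ g) = 4096 := by
  have P := S.pair hs h0 hg
  obtain ⟨q, hq, e⟩ := P.exq
  have h1 : C1[z].relIndex (cj g (twoCoreOfCentralizer z)) = 2 := relIndex_eq_two_iff.2 ⟨q, hq, fun b hb => by
    simp only [mem_centralizer_singleton_iff, ← mul_inv_eq_iff_eq_mul]
    have h2 : b * q * z * (b * q)⁻¹ = b * z * b⁻¹ * θ s := by
      rw [show b * q * z * (b * q)⁻¹ = b * (q * z * q⁻¹) * b⁻¹ by group, e, ← mul_assoc, mul_assoc (b * z),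
        ← (P.hQ.zc _ (inv_mem hb)).eq, mul_assoc (b * z)]
    rw [h2]
    rcases P.hQ.comm b hb z P.sQ with h | h <;> simp [h, P.hQ.z1, mul_assoc, P.hQ.zz]⟩
  have h2 := (C1[z].subgroupOf (cj g (twoCoreOfCentralizer z))).card_mul_index
  rw [card_cj, S.card_E, show index _ = 2 from h1, ← inf_subgroupOf_right,
    Nat.card_congr (subgroupOfEquivOfLe inf_le_right).toEquiv,
    ← Nat.card_congr (subgroupOfEquivOfLe inf_le_left).toEquiv, inf_subgroupOf_left] at h2
  have h3 := (μ.comp ((cj g (twoCoreOfCentralizer z)).subgroupOf _).subtype).ker.card_mul_index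
  have h4 : twoCoreOfCentralizer z ⊓ cj g (twoCoreOfCentralizer z) ≤ C1[z] := inf_le_left.trans (map_subtype_le _)
  rw [index_ker, MonoidHom.range_comp, range_subtype, show (μ.comp _).ker = ((twoCoreOfCentralizer z ⊓
      cj g (twoCoreOfCentralizer z)).subgroupOf _).subgroupOf _ from ext fun a => (S.ker _).trans (and_iff_left a.2).symm,
    Nat.card_congr (subgroupOfEquivOfLe (subgroupOf_mono _ inf_le_right)).toEquiv,
    Nat.card_congr (subgroupOfEquivOfLe h4).toEquiv] at h3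
  exact h3.trans (Nat.eq_of_mul_eq_mul_right two_pos h2)

theorem lists_AB {P : Subgroup (MulAut (XV 12))} (hP : P ≤ Ts) (hP' : P ≤ stabilizer _ (XV.mk' 12 s)) {k : ℕ}
    (c1 : #P = 2 ^ k) (c2 : ¬ 2 ^ (k + 1) ∣ #(Xs ⊓ stabilizer _ (XV.mk' 12 s))) {w : List ℕ}
    (hw : app (evalW mulM invM one12 LX w) s = s) : Lists IR (surv s w) (AB μ g) := by
  have Q := S.pair hs h0 hg
  have h1 : ∀ t ∈ Xs ⊓ stabilizer _ (XV.mk' 12 s), ∀ a ∈ AB μ g, t * a * t⁻¹ ∈ AB μ g := by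
    rintro t ht _ ⟨a, ha, rfl⟩
    obtain ⟨k, rfl, e⟩ := S.conj_of hs h0 (x := s) (by omega) ht.1 (by
      rw [show t _ = _ from ht.2, XV.mk'_val hs, Nat.mod_eq_of_lt hs])
    exact ⟨k * a * k⁻¹, Q.hQ.conj_mem (mul_inv_eq_iff_eq_mul.1 e) ha, by simp⟩
  have h2 : ∀ {a : C1[z]}, a.1 = 1 ∨ a.1 = θ s → μ a = 1 := fun h => (S.ker _).2 (by
    rcases h with h | h <;> rw [h]; exacts [one_mem _, Q.zP])
  have h3 : ∀ a ∈ AB μ g, a * a = 1 := by rintro _ ⟨a, ha, rfl⟩; rw [← map_mul]; exact h2 (Q.hQ.sq _ ha)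
  have h4 : AB μ g ≤ Xs ⊓ stabilizer _ (XV.mk' 12 s) := by
    rintro _ ⟨a, ha, rfl⟩
    obtain ⟨c, hc⟩ := S.exists_IR a
    obtain ⟨b, hb, e⟩ := S.act' a hc.1 (x := s) (by omega)
    refine ⟨S.μ_mem a, (hc.1.mk'_eq hs).trans (congrArg _ (S.toFr.cancel (app_lt _ _) hs hb two_pos ?_).1)⟩
    rw [← e, pow_zero, mul_one]; exact mul_inv_eq_iff_eq_mul.2 (Q.hQ.zc _ ha).eq
  obtain ⟨t, ht, h5⟩ := exists_conj_le_sylow Nat.prime_two (le_inf (hP.trans (Ts_le.trans Bs_le)) hP') h4 c1 rfl c2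
    fun a => ⟨1, Subtype.ext (by simpa [pow_two] using h3 _ a.2)⟩
  obtain ⟨τ, hτ, h6⟩ := isGrp_IR.slpW [w] codesX (evalW mulM invM one12 LX w) (by simp [slpW, appendL_eq])
  rw [surv, force_eq]
  refine listsT.filter (fun a ha => by simpa [mul_assoc] using hP (h5 _ (h1 _ (inv_mem ht) a ha))) fun c a ha hc => ?_
  have h7 := h1 τ ⟨hτ, (h6.1.mk'_eq hs).trans (congrArg _ hw)⟩ a ha
  simp only [band_eq, Bool.and_eq_true, nbeq]
  refine ⟨?_, isCanon_IR.canon (isGrp_IR.mul hc hc) (h3 a ha ▸ isGrp_IR.one), (commC_iff isGrp_IR isCanon_IR hc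
    (isGrp_IR.conj h6 hc)).1 (Invol.commute_of_mul_sq (h3 a ha) (h3 _ h7) (h3 _ (mul_mem ha h7)))⟩
  have := congrArg XV.val ((hc.1.mk'_eq hs).symm.trans (h4 ha).2)
  rwa [XV.mk'_val (app_lt _ _), XV.mk'_val hs] at this
end

theorem not_fused : ¬ IsConj z (θ x0) := fun h => by
  obtain ⟨g, hg⟩ := isConj_iff.1 h
  have hx : VP 12 x0 _ := (XV.mk'_val (by decide)).symm
  have h1 := (S.lists_AB (by decide) (by decide) hg (P := Ts ⊓ stabilizer _ (XV.mk' 12 x0)) inf_le_left inf_le_right (k := 7)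
    ((card_of_lists (listsT.filter inf_le_left fun c a ha hc => nbeq.2 (VP.canon (isAct_IR hc hx) (ha.2.symm ▸ hx)))
      (codesT.filter_fix isAct_IR VP.func hx) (by decide +kernel)).trans (by decide +kernel))
    (by rw [le_antisymm (card_stab S.card_Xs) (le_trans (le_trans (by decide +kernel) (chainM_le_card (B := [1, 4])
      (by decide +kernel) (codes_sgB.filter_fix isAct_MR VP.func hx) 500)) (card_le_of_le (inf_le_inf_right _ Bs_le)))]
        norm_num) (w := [3, 4, 0, 4, 0, 0]) (by decide +kernel)).card_le isCanon_IR.func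
  rw [show lenL _ = 16 by decide +kernel] at h1
  have h2 := S.card_AB (by decide) (by decide) hg
  have := Nat.mul_le_mul (S.card_D (by decide) (by decide) hg) h1
  omega

theorem fused [IsSimpleGroup G] : ∃ g, g * z * g⁻¹ = θ s0 := by
  classical
  have w1 : wA⁻¹ ≠ wA := fun e => absurd (isCanon_IR.canon (isGrp_IR.inv IR_wA) (e ▸ IR_wA)) (by decide +kernel)
  have h1 : ∀ b : C1[z], μ b * wA * (μ b)⁻¹ = wA ∨ μ b * wA * (μ b)⁻¹ = wA⁻¹ := fun b => by
    obtain ⟨k, hk, e⟩ := S.frat _ (S.μ_mem b)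
    obtain ⟨i, hi⟩ := (_root_.mem_zpowers_iff_mem_range_orderOf.trans Finset.mem_image).1
      ((mem_normalizer_iff.1 hk p).1 (mem_zpowers p))
    have h2 : wA ^ i = μ b * wA * (μ b)⁻¹ := by
      rw [← e, ← S.μp, ← map_pow, ← map_inv, ← map_mul, ← map_mul]; exact congrArg μ (Subtype.ext hi.2)
    have := hi.1
    rw [S.op, Finset.mem_range] at this
    interval_cases i
    · exact absurd (by rw [conj_eq_one_iff.1 h2.symm, inv_one]) w1
    · exact Or.inl (h2 ▸ pow_one _)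
    · exact Or.inr (h2 ▸ eq_inv_of_mul_eq_one_left wA3)
  obtain ⟨a, -, ha⟩ := S.exK codesX le_rfl (c := c2) (by simp [LX])
  have h2 : μ a * wA * (μ a)⁻¹ = wA⁻¹ := isCanon_IR.func (isGrp_IR.conj ha IR_wA) (by
    rw [show conjC mulM invM c2 cW = invM cW by decide +kernel]; exact isGrp_IR.inv IR_wA)
  have h3 : (C1[wA].comap μ).index = 2 := index_eq_two_iff.2 ⟨a, fun b => by
    simp only [mem_comap, mem_centralizer_singleton_iff, ← mul_inv_eq_iff_eq_mul]
    rw [show μ (b * a) * wA * (μ (b * a))⁻¹ = (μ b * (μ a * wA * (μ a)⁻¹)⁻¹ * (μ b)⁻¹)⁻¹ by rw [map_mul]; group, h2, inv_inv]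
    rcases h1 b with h | h <;> simp [h, w1]⟩
  have hn := normal_of_index_eq_two h3
  obtain ⟨g, h4, h5⟩ := S3300.result (G := G) ((Transfer.pResidual_normal 2 G).eq_bot_or_eq_top.resolve_left fun e => by
      have : p ∈ pResidual 2 G := subset_closure (by show Nat.Coprime _ _; rw [S.op]; decide)
      have h := S.op
      rw [e, mem_bot] at this
      simp [this] at h) z S.toFr.oz _ rfl S.es.isExtraspecial S.cent 6 (by norm_num) S.card_E
    ((C1[wA].comap μ).map (Subgroup.subtype _)) (map_subtype_le _) (fun h hh => eq_of_le_of_card_ge (by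
      rintro _ ⟨_, ⟨k, hk, rfl⟩, rfl⟩; exact ⟨_, hn.conj_mem k hk ⟨h, hh⟩, rfl⟩) (Comp.card_map_conj _ _).ge)
    (by rw [relIndex, subgroupOf, comap_map_eq_self_of_injective (subtype_injective _), h3])
  obtain ⟨x, hx, e⟩ := (S.core _).1 h4
  have o : orderOf (θ x) = 2 := e ▸ (Invol.orderOf_conj' g z).trans S.toFr.oz
  obtain ⟨h, -, h6 | h6⟩ := S.inv_E hx (by rintro rfl; exact Invol.ne_one_of o S.toFr.θ0)
    (by rintro rfl; exact h5 (e.symm.trans S.hz)) (by
      have := (S.toFr.sq hx).symm.trans (Invol.mul_self_of o)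
      have l := bt_lt x x
      interval_cases bt x x
      exacts [rfl, absurd ((pow_one z).symm.trans this) S.toFr.z1])
  · exact ⟨h * g, by rw [← h6, e]; group⟩
  · exact absurd (isConj_iff.2 ⟨h * g, by rw [← h6, e]; group⟩) S.not_fused

variable {g : G} (hg : g * z * g⁻¹ = θ s0)
include hg

theorem listsA : Lists IR LA (AB μ g) := by
  have := S.lists_AB (by decide) (by decide) hg le_rfl (fun a ha => by
    obtain ⟨c, hc, e⟩ := listsT.forall (f := fun c => Nat.beq (app c s0) s0) (by decide +kernel) ha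
    exact (hc.1.mk'_eq (by decide)).trans (congrArg _ (nbeq.1 e))) (k := 8) card_Ts
    (fun h => absurd (h.trans (card_dvd_of_le inf_le_left)) (by rw [S.card_Xs]; norm_num)) (w := [1, 2, 1, 4, 9, 2])
    (by decide +kernel)
  exact fun a ha => let ⟨c, h1, h2⟩ := this a ha
    ⟨c, memL_iff.1 (allL_iff.1 (by decide +kernel : allL (surv s0 [1, 2, 1, 4, 9, 2]) (fun c => memL c LA) = true) c h1), h2⟩

theorem A (h : centralizer ({z} : Set G)) (hh : h.1 ∈ cj g (twoCoreOfCentralizer z)) : ∃ c ∈ LA, IR c (μ h) :=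
  S.listsA hg _ ⟨h, hh, rfl⟩

theorem card_D' : #(twoCoreOfCentralizer z ⊓ cj g (twoCoreOfCentralizer z)) = 128 := by
  have h1 : _ ≤ 32 := (S.listsA hg).card_le isCanon_IR.func
  have h2 := S.card_AB (by decide) (by decide) hg
  have := S.card_D (by decide) (by decide) hg
  nlinarith

theorem exA {c : ℕ} (hc : c ∈ LA) : ∃ a : centralizer ({z} : Set G), a.1 ∈ cj g (twoCoreOfCentralizer z) ∧ IR c (μ a) := by
  by_contra! h
  have h1 := (S.listsA hg).card_subgroup_le isCanon_IR.func le_rfl (pb := fun d => not (Nat.beq d c)) (by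
    rintro d _ ⟨a, ha, rfl⟩ hd
    rw [Bool.not_eq_true', nbeq_false]; rintro rfl; exact h a ha hd)
  have h2 := nble.1 (allL_iff.1 (by decide +kernel :
    allL LA (fun c => Nat.ble (countL (fun d => not (Nat.beq d c)) LA) 31) = true) c hc)
  have h3 := S.card_AB (by decide) (by decide) hg
  rw [S.card_D' hg] at h3
  omega

theorem D {x : ℕ} (hx : x < 8192) : θ x ∈ cj g (twoCoreOfCentralizer z) ↔ x % 4096 ∈ LD := by
  have Q := S.pair (by decide) (by decide) hg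
  have h1 : ∀ j < 2 ^ 6, θ (app 0x419826df94f2ca1a44 j) ∈ cj g (twoCoreOfCentralizer z) :=
    xind (P := fun j => θ (app _ j) ∈ _) (by rw [app_zero, S.toFr.θ0]; exact one_mem _) (fun i hi => by
      obtain ⟨c, hc, v, hv, e1, e2⟩ := (by decide +kernel : ∀ i < 6, ∃ c ∈ LA, ∃ v < 9, bf v s0 = 0 ∧
        app c v ^^^ v = app 0x419826df94f2ca1a44 (2 ^ i)) i hi
      obtain ⟨a, ha, hc⟩ := S.exA hg hc
      obtain ⟨b, -, e⟩ := S.act' a hc.1 (x := v) (by omega)
      have := mul_mem ha (Q.hQ.conj_mem ((S.toFr.comm_iff (by omega) (by decide)).2 e1).inv_left (inv_mem ha))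
      rw [show a * ((θ v)⁻¹ * (a : G)⁻¹ * (θ v)⁻¹⁻¹) = (a * θ v * (a⁻¹ : C1[z]))⁻¹ * θ v by simp [mul_assoc], e, mul_inv_rev,
        mul_assoc, mul_mem_cancel_left (inv_mem (pow_mem Q.sQ _)), ← inv_mem_iff, mul_inv_rev, inv_inv] at this
      have h2 := S.toFr.mul' (x := v) (by omega) (xlt (app_lt' c v) (show v < 8192 by omega))
      rw [Nat.xor_comm (app c v), Nat.xor_xor_cancel_left, Nat.xor_comm v, e2] at h2
      rw [eq_inv_mul_of_mul_eq h2, ← mul_assoc]
      exact mul_mem this (pow_mem Q.sQ _)) fun a _ b _ h1 h2 => by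
      have := mul_mem h1 h2
      rwa [S.toFr.mul' (app_lt' _ _) (app_lt' _ _), mul_mem_cancel_right (pow_mem Q.sQ _), ← app_xor] at this
  have h2 : ∀ x < 8192, x % 4096 ∈ LD → θ x ∈ cj g (twoCoreOfCentralizer z) := fun x hx h => by
    obtain ⟨j, hj, e⟩ := (by decide +kernel : ∀ v ∈ LD, ∃ j < 2 ^ 6, app 0x419826df94f2ca1a44 j = v) _ h
    rcases S.θmod hx with e' | e' <;> rw [e', ← e]
    exacts [h1 j hj, mul_mem (h1 j hj) Q.sQ]
  refine ⟨fun h => ?_, h2 x hx⟩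
  have h3 : ∀ y ∈ (LD ++ LD.map (· + 4096)).toFinset, y < 8192 ∧ y % 4096 ∈ LD := by decide +kernel
  have h4 : θ '' (LD ++ LD.map (· + 4096)).toFinset = (twoCoreOfCentralizer z ⊓ cj g (twoCoreOfCentralizer z) :) :=
    Set.eq_of_subset_of_ncard_le (by rintro _ ⟨y, hy, rfl⟩; exact ⟨S.θE (h3 y hy).1, h2 y (h3 y hy).1 (h3 y hy).2⟩) (by
      rw [Set.InjOn.ncard_image fun a ha b hb => S.inj a (h3 a ha).1 b (h3 b hb).1, Set.ncard_coe_finset]
      exact (S.card_D' hg).trans_le (by decide +kernel))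
  obtain ⟨y, hy, e⟩ := h4.ge ⟨S.θE hx, h⟩
  exact S.inj _ (h3 y hy).1 _ hx e ▸ (h3 y hy).2

theorem A' {c : ℕ} (hc : c ∈ LA) (k : centralizer ({z} : Set G)) (hk : k.1 ∈ normalizer (zpowers p : Set G))
    (h : MR 12 c (μ k)) : k.1 ∈ cj g (twoCoreOfCentralizer z) := by
  have Q := S.pair (by decide) (by decide) hg
  obtain ⟨a, ha, h1⟩ := S.exA hg hc
  have h2 : (a * k⁻¹).1 ∈ _ := (S.ker _).1 (by rw [map_mul, map_inv, h1.1.func h, mul_inv_cancel])
  have h3 : ∀ d ∈ twoCoreOfCentralizer z ⊓ cj g (twoCoreOfCentralizer z),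
      (k * d * k⁻¹ = d ∨ k * d * k⁻¹ = d * θ s0) ∧ Commute (a * k⁻¹).1 (k * d * k⁻¹) := fun d hd => by
    obtain ⟨x, hx, rfl⟩ := (S.core _).1 hd.1
    have e1 : k * θ x * k⁻¹ = θ x ∨ k * θ x * k⁻¹ = θ x * θ s0 := by
      have := allL_iff.1 (allL_iff.1 (by decide +kernel : allL LA (fun c => allL (LD ++ LD.map (· + 4096)) fun x =>
        force (J4T.kact c x) fun y => bor (Nat.beq y x) (Nat.beq y (emul x s0))) = true) c hc) x (by
          have := (S.D hg hx).1 hd.2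
          by_cases l : x < 4096
          · exact List.mem_append_left _ (Nat.mod_eq_of_lt l ▸ this)
          · exact List.mem_append_right _ (List.mem_map.2 ⟨_, this, by omega⟩))
      rw [force_eq, bor_eq, Bool.or_eq_true, nbeq, nbeq] at this
      rw [S.kact hk h hx, S.mul _ hx _ (by decide)]
      exact this.imp (congrArg θ) (congrArg θ)
    refine ⟨e1, by_contra fun hn => ?_⟩
    have e2 := S.es.conj_of_not h2 (S.le.conj_mem (mem_centralizer_singleton_iff.1 k.2) hd.1) hn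
    rw [show (a * k⁻¹).1 * (k * θ x * (k : G)⁻¹) * (a * k⁻¹).1⁻¹ = a * θ x * (a : G)⁻¹ by simp [mul_assoc]] at e2
    have n1 := S.toFr.z1
    have n2 := Q.ne
    have n3 : θ s0 * z ≠ 1 := fun e => n2 ((eq_inv_of_mul_eq_one_right e).trans (Invol.inv_eq_of Q.hQ.z2))
    rcases Q.hQ.comm _ ha _ hd.2 with e | e <;> rcases e1 with e' | e' <;> rw [e, show (k : G) * θ x * (k : G)⁻¹ = _ from e'] at e2 <;>
      simp [mul_assoc, n1, n2.symm, n3] at e2
  have h4 : Commute (a * k⁻¹).1 (θ s0) := by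
    obtain ⟨e | e, h⟩ := h3 _ ⟨Q.zP, Q.hQ.zQ⟩
    · exact e ▸ h
    · rw [Q.hQ.zz] at e; exact absurd (conj_eq_one_iff.1 e) Q.hQ.z1
  have h5 := S.es.card_cent (A := _ ⊓ cj g _) inf_le_left ⟨S.es.zQ, Q.sQ⟩
  rw [S.card_D' hg, S.card_E] at h5
  have h6 : _ = twoCoreOfCentralizer z ⊓ C[twoCoreOfCentralizer z ⊓ cj g (twoCoreOfCentralizer z)] :=
    eq_of_le_of_card_ge (le_inf inf_le_left fun a ha b hb => (S.D_comm (by decide) (by decide) hg hb ha).eq)
      (by rw [S.card_D' hg]; omega)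
  have h7 : _ ∈ cj g _ := (h6.ge ⟨h2, fun d hd => by
    obtain ⟨e | e, h⟩ := h3 d hd <;> rw [e] at h
    exacts [h.eq.symm, (by simpa using h.mul_right h4.inv_right : Commute _ d).eq.symm]⟩).2
  simpa using mul_mem (inv_mem h7) ha
end St

end Cfsg.Agent.J4T
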