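import Cfsg.Agent.Comp.Class

/-! Bit-level linear algebra over `F₂` in dimension `≤ 12`: vectors are numbers, matrices are packed columns
(`col c i`, width 12), `app`, `mulM`, the cocycle `bt` of `2^{1+12}_+ = Q₈^6`, the form `bf`, the group `XV n`
(numbers `< 2^n` under xor), codes `MR n c g` of its automorphisms, the isometry group `OQ`. -/

set_option autoImplicit false

namespace Cfsg.Agent.J4T
open Cfsg.Agent.Comp

theorem xind {P : ℕ → Prop} {n : ℕ} (h0 : P 0) (h1 : ∀ i < n, P (2 ^ i))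
    (hx : ∀ a < 2 ^ n, ∀ b < 2 ^ n, P a → P b → P (a ^^^ b)) : ∀ v < 2 ^ n, P v := by
  have key : ∀ m ≤ n, ∀ v < 2 ^ m, P v := by
    intro m
    induction m with
    | zero => intro _ v hv; have : v = 0 := by simpa using hv
              exact this ▸ h0
    | succ m ih =>
      intro hm v hv
      have hlt : ∀ x, x < 2 ^ (m + 1) → x.testBit m = false → x < 2 ^ m := fun x hx hb =>
        Nat.lt_pow_two_of_testBit x fun j hj => by
          rcases hj.eq_or_lt with rfl | hj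
          · exact hb
          · exact Nat.testBit_lt_two_pow (hx.trans_le (Nat.pow_le_pow_right two_pos hj))
      have hmn : 2 ^ m < 2 ^ n := Nat.pow_lt_pow_right one_lt_two hm
      cases hb : v.testBit m
      · exact ih (by omega) v (hlt v hv hb)
      · have h2 : v ^^^ 2 ^ m < 2 ^ m := hlt _ (Nat.xor_lt_two_pow hv (Nat.pow_lt_pow_right one_lt_two m.lt_succ_self))
          (by simp [hb])
        have := hx _ (h2.trans hmn) _ hmn (ih (by omega) _ h2) (h1 m hm)
        rwa [Nat.xor_xor_cancel_right] at this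
  exact key n le_rfl

theorem lin_ext {f g : ℕ → ℕ} {n : ℕ} (hf : ∀ a < 2 ^ n, ∀ b < 2 ^ n, f (a ^^^ b) = f a ^^^ f b)
    (hg : ∀ a < 2 ^ n, ∀ b < 2 ^ n, g (a ^^^ b) = g a ^^^ g b) (h : ∀ i < n, f (2 ^ i) = g (2 ^ i)) :
    ∀ v < 2 ^ n, f v = g v := by
  refine xind ?_ h fun a ha b hb e1 e2 => by rw [hf a ha b hb, hg a ha b hb, e1, e2]
  have e1 := hf 0 (Nat.two_pow_pos n) 0 (Nat.two_pow_pos n)
  have e2 := hg 0 (Nat.two_pow_pos n) 0 (Nat.two_pow_pos n)
  simp only [Nat.xor_self] at e1 e2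
  rw [e1, e2]

theorem bilin_ext {f g : ℕ → ℕ → ℕ} {n : ℕ}
    (hf : ∀ a < 2 ^ n, ∀ b < 2 ^ n, ∀ c < 2 ^ n, f (a ^^^ b) c = f a c ^^^ f b c)
    (hf' : ∀ a < 2 ^ n, ∀ b < 2 ^ n, ∀ c < 2 ^ n, f c (a ^^^ b) = f c a ^^^ f c b)
    (hg : ∀ a < 2 ^ n, ∀ b < 2 ^ n, ∀ c < 2 ^ n, g (a ^^^ b) c = g a c ^^^ g b c)
    (hg' : ∀ a < 2 ^ n, ∀ b < 2 ^ n, ∀ c < 2 ^ n, g c (a ^^^ b) = g c a ^^^ g c b)
    (h : ∀ i < n, ∀ j < n, f (2 ^ i) (2 ^ j) = g (2 ^ i) (2 ^ j)) :
    ∀ v < 2 ^ n, ∀ w < 2 ^ n, f v w = g v w := fun v hv w hw =>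
  lin_ext (f := fun v => f v w) (g := fun v => g v w) (fun a ha b hb => hf a ha b hb w hw)
    (fun a ha b hb => hg a ha b hb w hw) (fun i hi =>
      have hi' : 2 ^ i < 2 ^ n := Nat.pow_lt_pow_right one_lt_two hi
      lin_ext (f := f (2 ^ i)) (g := g (2 ^ i)) (fun a ha b hb => hf' a ha b hb _ hi')
        (fun a ha b hb => hg' a ha b hb _ hi') (h i hi) w hw) v hv

/-- parity of the number of set bits (below 16). -/
def par (n : ℕ) : ℕ :=
  force (Nat.xor n (Nat.shiftRight n 8)) fun a => force (Nat.xor a (Nat.shiftRight a 4)) fun b =>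
    force (Nat.xor b (Nat.shiftRight b 2)) fun c => Nat.land (Nat.xor c (Nat.shiftRight c 1)) 1

theorem par_eq (n : ℕ) : par n = let a := n ^^^ n >>> 8; let b := a ^^^ a >>> 4; let c := b ^^^ b >>> 2
    (c ^^^ c >>> 1) &&& 1 := by
  simp only [par, force_eq]; rfl

theorem par_lt (n : ℕ) : par n < 2 := by
  rw [par_eq]; exact Nat.and_lt_two_pow _ (n := 1) (by norm_num)

theorem par_xor (a b : ℕ) : par (a ^^^ b) = par a ^^^ par b := by
  simp only [par_eq, Nat.shiftRight_xor_distrib, ← Nat.and_xor_distrib_right]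
  congr 1; ac_rfl

/-- the cocycle: `σ v * σ w = σ (v ^^^ w) * z ^ bt v w`. -/
def bt (v w : ℕ) : ℕ :=
  par (Nat.xor (Nat.land (Nat.land v w) 4095) (Nat.land (Nat.land (Nat.shiftRight v 1) w) 1365))

/-- the alternating form. -/
def bf (v w : ℕ) : ℕ := Nat.xor (bt v w) (bt w v)

theorem bt_eq (v w : ℕ) : bt v w = par (((v &&& w) &&& 4095) ^^^ (((v >>> 1) &&& w) &&& 1365)) := rfl
theorem bf_eq (v w : ℕ) : bf v w = bt v w ^^^ bt w v := rfl
theorem bt_lt (v w : ℕ) : bt v w < 2 := par_lt _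
theorem bf_lt (v w : ℕ) : bf v w < 2 := Nat.xor_lt_two_pow (n := 1) (bt_lt _ _) (bt_lt _ _)

theorem bt_xor (a b c : ℕ) : bt (a ^^^ b) c = bt a c ^^^ bt b c := by
  simp only [bt_eq, ← par_xor, Nat.shiftRight_xor_distrib, Nat.and_xor_distrib_right]
  congr 1; ac_rfl
theorem bt_xor' (a b c : ℕ) : bt c (a ^^^ b) = bt c a ^^^ bt c b := by
  simp only [bt_eq, ← par_xor, Nat.and_xor_distrib_left, Nat.and_xor_distrib_right]
  congr 1; ac_rfl
theorem bf_xor (a b c : ℕ) : bf (a ^^^ b) c = bf a c ^^^ bf b c := by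
  simp only [bf_eq, bt_xor, bt_xor']; ac_rfl
theorem bf_comm (a b : ℕ) : bf a b = bf b a := by simp only [bf_eq]; ac_rfl
theorem bf_xor' (a b c : ℕ) : bf c (a ^^^ b) = bf c a ^^^ bf c b := by
  rw [bf_comm, bf_xor, bf_comm a, bf_comm b]
theorem bf_self (a : ℕ) : bf a a = 0 := Nat.xor_self _
theorem bt_zero (a : ℕ) : bt 0 a = 0 := by simpa using bt_xor 0 0 a
theorem bt_zero' (a : ℕ) : bt a 0 = 0 := by simpa using bt_xor' 0 0 a
theorem bt_z (a : ℕ) : bt 4096 a = 0 := by
  have h1 : (4096 &&& a) &&& 4095 = 0 := by rw [Nat.and_comm 4096, Nat.and_assoc]; simp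
  have h2 : ((4096 >>> 1) &&& a) &&& 1365 = 0 := by rw [Nat.and_comm _ a, Nat.and_assoc]; simp
  rw [bt_eq, h1, h2]; rfl
theorem bt_z' (a : ℕ) : bt a 4096 = 0 := by
  have h1 : (a &&& 4096) &&& 4095 = 0 := by rw [Nat.and_assoc]; simp
  have h2 : ((a >>> 1) &&& 4096) &&& 1365 = 0 := by rw [Nat.and_assoc]; simp
  rw [bt_eq, h1, h2]; rfl
theorem q_xor (a b : ℕ) : bt (a ^^^ b) (a ^^^ b) = bt a a ^^^ bt b b ^^^ bf a b := by
  simp only [bf_eq, bt_xor, bt_xor']; ac_rfl

/-- column `i` of a packed matrix. -/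
def col (c i : ℕ) : ℕ := get 12 4095 c i

theorem col_lt (c i : ℕ) : col c i < 4096 := get_lt (w := 12) rfl c i
theorem col_xor (a b i : ℕ) : col (a ^^^ b) i = col a i ^^^ col b i := get_xor ..
theorem col_pack {n : ℕ} {v : ℕ → ℕ} (hv : ∀ i < n, v i < 4096) {i : ℕ} (hi : i < n) :
    col (pack 12 n v) i = v i := get_pack (w := 12) rfl hv hi
theorem col_ext {n a b : ℕ} (ha : a < 2 ^ (12 * n)) (hb : b < 2 ^ (12 * n)) (h : ∀ i < n, col a i = col b i) :
    a = b := eq_of_get_eq (w := 12) (m := 4095) rfl ha hb h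
theorem col_of_lt {n a i : ℕ} (ha : a < 2 ^ (12 * n)) (hi : n ≤ i) : col a i = 0 := by
  rw [col, get_eq, Nat.shiftRight_eq_div_pow,
    Nat.div_eq_of_lt (ha.trans_le (Nat.pow_le_pow_right two_pos (by omega)))]; simp
theorem lt_of_col {n a : ℕ} (h : ∀ i, n ≤ i → col a i = 0) : a < 2 ^ (12 * n) :=
  Nat.lt_pow_two_of_testBit a fun j hj => by
    have := testBit_get (w := 12) (m := 4095) rfl a (j / 12) (j % 12)
    rw [show get 12 4095 a (j / 12) = 0 from h _ (by omega), Nat.div_add_mod] at this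
    simpa [Nat.mod_lt j (show 0 < 12 by norm_num)] using this.symm

/-- one term of `mulK`. -/
def tK (o a b s i : ℕ) : ℕ := Nat.mul (Nat.land (Nat.shiftRight a s) 4095) (Nat.land (Nat.shiftRight b i) o)

/-- apply the matrix `a` to all the packed vectors of `b` (`o = ones n` for `n` vectors). -/
def mulK (o a b : ℕ) : ℕ := force a fun a => force b fun b =>
  Nat.xor (Nat.xor (Nat.xor (Nat.xor (tK o a b 0 0) (tK o a b 12 1)) (Nat.xor (tK o a b 24 2) (tK o a b 36 3)))
    (Nat.xor (Nat.xor (tK o a b 48 4) (tK o a b 60 5)) (Nat.xor (tK o a b 72 6) (tK o a b 84 7))))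
    (Nat.xor (Nat.xor (tK o a b 96 8) (tK o a b 108 9)) (Nat.xor (tK o a b 120 10) (tK o a b 132 11)))

/-- matrix times vector. -/
def app (c v : ℕ) : ℕ := mulK 1 c v
/-- matrix product. -/
def mulM (a b : ℕ) : ℕ := mulK 0x001001001001001001001001001001001001 a b

def ones (n : ℕ) : ℕ := Nat.rec (motive := fun _ => ℕ) 0 (fun _ ih => Nat.add (Nat.mul 4096 ih) 1) n

theorem col_succ {r : ℕ} (hr : r < 4096) (y j : ℕ) : col (4096 * y + r) (j + 1) = col y j := by
  simp only [col, get_eq, Nat.shiftRight_eq_div_pow]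
  rw [show 2 ^ (12 * (j + 1)) = 4096 * 2 ^ (12 * j) by ring, ← Nat.div_div_eq_div_mul,
    show (4096 * y + r) / 4096 = y by omega]
theorem col_zero (y : ℕ) : col y 0 = y % 4096 := by
  simp only [col, get_eq]; exact Nat.and_two_pow_sub_one_eq_mod y 12

theorem and_ones (n b : ℕ) : b &&& ones (n + 1) = 4096 * ((b >>> 12) &&& ones n) + b % 2 := by
  have e : ones (n + 1) = 2 ^ 12 * ones n + 1 := rfl
  apply Nat.eq_of_testBit_eq; intro j
  rw [e, show 4096 = 2 ^ 12 from rfl, Nat.testBit_and, Nat.testBit_two_pow_mul_add _ (by norm_num),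
    Nat.testBit_two_pow_mul_add _ (by omega)]
  split_ifs with h
  · rw [← Nat.testBit_and, Nat.and_one_is_mod]
  · rw [Nat.testBit_and, Nat.testBit_shiftRight, show 12 + (j - 12) = j by omega]

theorem col_spread {x : ℕ} (hx : x < 4096) (n : ℕ) : ∀ b j,
    col (x * (b &&& ones n)) j = if j < n then x * ((b >>> (12 * j)) % 2) else 0 := by
  induction n with
  | zero => intro b j; simp [ones, col, get_zero]
  | succ n ih =>
    intro b j
    have hr : x * (b % 2) < 4096 := by rcases Nat.mod_two_eq_zero_or_one b with h | h <;> simp [h, hx]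
    rw [and_ones, mul_add, mul_left_comm]
    cases j with
    | zero => rw [col_zero]; simp [Nat.mod_eq_of_lt hr]
    | succ j =>
      rw [col_succ hr, ih, ← Nat.shiftRight_add, show 12 + 12 * j = 12 * (j + 1) by ring]; simp

theorem col_tK (n a b s : ℕ) {i : ℕ} (hi : i < 12) (j : ℕ) :
    col (tK (ones n) a b s i) j = if j < n then tK 1 a (col b j) s i else 0 := by
  have : tK (ones n) a b s i = ((a >>> s) &&& 4095) * ((b >>> i) &&& ones n) := rfl
  rw [this, col_spread (Nat.and_lt_two_pow _ (n := 12) (by norm_num))]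
  split_ifs
  · show _ = ((a >>> s) &&& 4095) * ((col b j >>> i) &&& 1)
    congr 1
    have h1 := bit_eq (col b j) i
    have h2 := bit_eq b (12 * j + i)
    rw [col, testBit_get (w := 12) rfl] at h1
    simp only [hi, decide_true, Bool.true_and] at h1
    rw [← h2] at h1
    rw [← Nat.shiftRight_add, ← Nat.and_one_is_mod, add_comm i]
    exact h1.symm
  · rfl

theorem col_mulK (n a b j : ℕ) : col (mulK (ones n) a b) j = if j < n then app a (col b j) else 0 := by
  have hx : ∀ x y, col (Nat.xor x y) j = Nat.xor (col x j) (col y j) := fun x y => col_xor x y j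
  simp only [mulK, app, force_eq, hx]
  repeat rw [col_tK _ _ _ _ (by norm_num)]
  split_ifs <;> rfl

theorem mulM_eq (a b : ℕ) : mulM a b = mulK (ones 12) a b := rfl
theorem col_mulM (a b : ℕ) {j : ℕ} (hj : j < 12) : col (mulM a b) j = app a (col b j) := by
  rw [mulM_eq, col_mulK, if_pos hj]

theorem tK_xor (o a s i b c : ℕ) (ho : o = 1) : tK o a (b ^^^ c) s i = tK o a b s i ^^^ tK o a c s i := by
  subst ho
  show _ * (((b ^^^ c) >>> i) &&& 1) = _ * ((b >>> i) &&& 1) ^^^ _ * ((c >>> i) &&& 1)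
  rw [Nat.shiftRight_xor_distrib, Nat.and_xor_distrib_right]
  simp only [Nat.and_one_is_mod]
  rcases Nat.mod_two_eq_zero_or_one (b >>> i) with h | h <;>
    rcases Nat.mod_two_eq_zero_or_one (c >>> i) with h' | h' <;> simp [h, h']

theorem app_xor (c a b : ℕ) : app c (a ^^^ b) = app c a ^^^ app c b := by
  have hx : ∀ x y, Nat.xor x y = x ^^^ y := fun _ _ => rfl
  simp only [app, mulK, force_eq, tK_xor _ _ _ _ _ _ rfl, hx]; ac_rfl

theorem app_zero (c : ℕ) : app c 0 = 0 := by simpa using app_xor c 0 0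

theorem app_lt (c v : ℕ) : app c v < 4096 := by
  have h := lt_of_col (n := 1) (a := mulK (ones 1) c v) fun i hi => by rw [col_mulK, if_neg (by omega)]
  exact h

theorem app_pow (c : ℕ) {i : ℕ} (hi : i < 12) : app c (2 ^ i) = col c i := by
  have hx : ∀ x y, Nat.xor x y = x ^^^ y := fun _ _ => rfl
  simp only [app, mulK, force_eq, hx, tK, col, get_eq]
  interval_cases i <;> simp

theorem app_xor_left (a b v : ℕ) : app (a ^^^ b) v = app a v ^^^ app b v := by
  have h : ∀ s i, tK 1 (a ^^^ b) v s i = tK 1 a v s i ^^^ tK 1 b v s i := fun s i => by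
    show (((a ^^^ b) >>> s) &&& 4095) * ((v >>> i) &&& 1) = _ * ((v >>> i) &&& 1) ^^^ _ * ((v >>> i) &&& 1)
    rw [Nat.shiftRight_xor_distrib, Nat.and_xor_distrib_right]
    simp only [Nat.and_one_is_mod]
    rcases Nat.mod_two_eq_zero_or_one (v >>> i) with h | h <;> simp [h]
  have hx : ∀ x y, Nat.xor x y = x ^^^ y := fun _ _ => rfl
  simp only [app, mulK, force_eq, h, hx]; ac_rfl

theorem app_mulM (a b : ℕ) {v : ℕ} (hv : v < 4096) : app (mulM a b) v = app a (app b v) :=
  lin_ext (n := 12) (f := app (mulM a b)) (g := fun v => app a (app b v)) (fun _ _ _ _ => app_xor ..)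
    (fun _ _ _ _ => by simp only [app_xor]) (fun i hi => by simp only [app_pow _ hi, col_mulM _ _ hi]) v hv

theorem mulM_lt {n b : ℕ} (a : ℕ) (hb : b < 2 ^ (12 * n)) : mulM a b < 2 ^ (12 * n) :=
  lt_of_col fun i hi => by rw [mulM_eq, col_mulK, col_of_lt hb hi, app_zero]; simp

theorem app_lt_of {n c : ℕ} (hn : n ≤ 12) (h : ∀ i < n, col c i < 2 ^ n) : ∀ v < 2 ^ n, app c v < 2 ^ n :=
  xind (P := fun v => app c v < 2 ^ n) (by simp [app_zero]) (fun i hi => by
    simpa [app_pow c (hi.trans_le hn)] using h i hi)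
    fun a _ b _ h1 h2 => by simpa [app_xor] using Nat.xor_lt_two_pow h1 h2

/-- identity matrix of size `n`. -/
def oneN (n : ℕ) : ℕ := pack 12 n fun i => Nat.pow 2 i
def one12 : ℕ := 0x800400200100080040020010008004002001
def one11 : ℕ := 0x400200100080040020010008004002001
theorem one12_eq : one12 = oneN 12 := by decide +kernel
theorem one11_eq : one11 = oneN 11 := by decide +kernel

theorem app_oneN {n : ℕ} (hn : n ≤ 12) : ∀ v < 2 ^ n, app (oneN n) v = v :=
  lin_ext (f := app (oneN n)) (g := id) (fun _ _ _ _ => app_xor ..) (fun _ _ _ _ => rfl) fun i hi => by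
    rw [app_pow _ (hi.trans_le hn), oneN]
    exact col_pack (fun j hj => Nat.pow_lt_pow_right (n := 12) one_lt_two (by omega)) hi

/-- the order-3 scalar `ω`. -/
def cW : ℕ := 0xc008003002000c008003002000c008003002
/-- the `z`-bit of an element normalising `P` with matrix `M`. -/
def ell (M v : ℕ) : ℕ := force (app cW v) fun u => Nat.xor (bt v u) (bt (app M v) (app M u))
/-- multiplication of `2^{1+12}` on codes `< 8192` (`z = 4096`). -/
def emul (x y : ℕ) : ℕ := Nat.xor (Nat.xor x y) (Nat.shiftLeft (bt x y) 12)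
def einv (x : ℕ) : ℕ := Nat.xor x (Nat.shiftLeft (bt x x) 12)
/-- action on `2^{1+12}` of the element of `N(P)` with matrix `M`. -/
def kact (M x : ℕ) : ℕ := Nat.xor (Nat.xor (app M x) (Nat.land x 4096)) (Nat.shiftLeft (ell M x) 12)
/-- inverse of an isometry. -/
def invM (c : ℕ) : ℕ := force c fun c => pack 12 12 fun j =>
  pack 1 12 fun i => bf (Nat.pow 2 j) (col c (Nat.xor i 1))
/-- isometry test. -/
def isoB (c : ℕ) : Bool := force c fun c => allLt 12 fun i => force (col c i) fun x =>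
  band (Nat.beq (bt x x) 1) (allLt i fun j => Nat.beq (bf x (col c j)) (bf (Nat.pow 2 i) (Nat.pow 2 j)))

end Cfsg.Agent.J4T
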