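import Cfsg.Agent.Spor.J4C
import Cfsg.Agent.Spor.Cent5
import Cfsg.Prelude.Def_JankoFourType

/-! Notation for the 2-local subgroups of the fourth Janko group (helper23). -/

set_option maxRecDepth 100000

namespace Cfsg.Agent.J4T

open Cfsg.Agent.Spor Equiv

/-- The model of `2^11:M24`. -/
noncomputable abbrev K : Type := J4H.G

noncomputable abbrev ι : K →* Cfsg.Spor.J4 := J4G.ι

noncomputable abbrev T : Cfsg.Spor.J4 := J4G.T

/-- `O₂(K) = 2^11`. -/
noncomputable def V : Subgroup K := J4C.ψ.ker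

noncomputable def V0 : Subgroup Cfsg.Spor.J4 := V.map ι

noncomputable def N0 : Subgroup Cfsg.Spor.J4 := ι.range

def cuw : List ℕ := [1, 0, 1, 0, 1, 0, 1, 0, 2, 0]

def cuw' : List ℕ := [0, 1, 0, 2, 0, 2, 0, 2, 0, 2]

def v0w : List ℕ := cuw ++ [3] ++ cuw'

def t0w : List ℕ := [3, 0, 2, 0, 2, 0, 3, 0, 1, 0, 1, 0]

noncomputable def cu : K := ev J4L.yK cuw

/-- A sextet vector centralised by `T`. -/
noncomputable def v0 : K := ev J4L.yK v0w

/-- A duad vector. -/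
noncomputable def tv0 : K := ev J4L.yK t0w

noncomputable def z0 : Cfsg.Spor.J4 := ι v0

noncomputable def t0 : Cfsg.Spor.J4 := ι tv0

noncomputable def B0 : Subgroup K := Subgroup.centralizer {v0}

noncomputable def H0 : Subgroup Cfsg.Spor.J4 := Subgroup.centralizer {z0}

/-- The letters of `Spor.J4C` conjugated so that `Y 0 = z0` and `Y 20 = T`. -/
noncomputable def Y (x : ℕ) : Cfsg.Spor.J4 := MulAut.conj (ι cu)⁻¹ (J4C.Y x)

noncomputable def P0 : Subgroup Cfsg.Spor.J4 := Subgroup.zpowers (Y 13)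

noncomputable def Q0 : Subgroup Cfsg.Spor.J4 := genL Y [0, 1, 2, 3, 4, 5, 6, 7, 8, 9, 10, 11, 12]

instance V_normal : V.Normal := MonoidHom.normal_ker _

theorem ι_inj : Function.Injective ι := J4C.inj

theorem cu_inv : ev J4L.yK cuw' = cu⁻¹ :=
  eq_inv_of_mul_eq_one_left (by
    rw [cu, ← ev_append]; exact J4L.paK.rels (ws := [_]) (by decide +kernel) _ List.mem_cons_self)

theorem v0_eq : v0 = cu⁻¹ * J4C.t * cu := by rw [v0, v0w, ev_append, ev_append, cu_inv, mul_assoc]; rfl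

theorem Y0 : Y 0 = z0 := by rw [Y, J4C.zeq, z0, v0_eq]; simp

theorem Y20 : Y 20 = T := by
  have h : J4C.Y 20 = ev (Dce.gD ι J4L.yK T 11) (cuw' ++ [11] ++ cuw) := by
    rw [← ev_one J4C.Y, Ct.ev_xp]; exact congrArg _ (by decide +kernel)
  rw [Y, h, ev_append, ev_append, Dce.ev_gD (by decide), Dce.ev_gD (w := cuw') (by decide), cu_inv, ev_one, Dce.gD_t]
  simp [cu, mul_assoc]

theorem Y_K {x : ℕ} (w : List ℕ) (hc : andB (Ct.xp J4C.W1 (J4C.m2E.map Ex.w) [x] == w)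
    (allL w fun x => Nat.blt x 11) = true) : Y x = ι (ev J4L.yK (cuw ++ w ++ cuw')) := by
  rw [Y, show J4C.Y x = ι (ev J4L.yK w) from Ct.let_K w hc, ev_append, ev_append, cu_inv]; simp [cu, mul_assoc]

theorem eqs_map {A B : Type} [Group A] [Group B] {a : ℕ → A} {E : List (List ℕ × List ℕ)} (h : Ct.Eqs a E)
    (f : A →* B) : Ct.Eqs (fun x => f (a x)) E := fun e he => by rw [← map_ev, ← map_ev, h e he]

theorem Y_eqs : Ct.Eqs Y J4C.EE := eqs_map J4C.eqs (MulAut.conj (ι cu)⁻¹).toMonoidHom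

theorem H0_gen : H0 = genL Y [0, 1, 2, 3, 4, 5, 6, 7, 8, 9, 10, 11, 12, 13, 14, 15, 16, 17, 18, 19, 20] := by
  refine le_antisymm (fun g hg => ?_) (by rw [H0, ← Y0]; exact Y_eqs.comm (by decide +kernel))
  have h : MulAut.conj (ι cu) g ∈ J4C.M := by
    rw [← J4C.cent, Subgroup.mem_centralizer_singleton_iff]
    have := congrArg (MulAut.conj (ι cu)) (Subgroup.mem_centralizer_singleton_iff.1 hg)
    rw [map_mul, map_mul, ← Y0, Y, map_inv, MulAut.apply_inv_self] at this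
    exact this
  have := Subgroup.mem_map_of_mem (MulAut.conj (ι cu)⁻¹).toMonoidHom h
  rw [map_genL', show (MulAut.conj (ι cu)⁻¹).toMonoidHom (MulAut.conj (ι cu) g) = g by simp [mul_assoc]] at this
  exact this

theorem mem_H0 {b : K} : ι b ∈ H0 ↔ b ∈ B0 := by
  rw [H0, B0, Subgroup.mem_centralizer_singleton_iff, Subgroup.mem_centralizer_singleton_iff, z0, ← map_mul,
    ← map_mul, ι_inj.eq_iff]

theorem T_mem : T ∈ H0 := by rw [H0_gen, ← Y20]; exact mem_genL _ (by decide)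

theorem z0_mem : z0 ∈ H0 := Subgroup.mem_centralizer_singleton_iff.2 rfl

theorem H0_le {S : Subgroup Cfsg.Spor.J4} (h : ∀ b ∈ B0, ι b ∈ S) (hT : T ∈ S) : H0 ≤ S := by
  rw [H0_gen]
  refine genL_le fun x hx => ?_
  have h1 : Y x ∈ H0 := H0_gen ▸ mem_genL _ hx
  have h2 : ∀ x < 20, andB (Ct.xp J4C.W1 (J4C.m2E.map Ex.w) [x] == Ct.xp J4C.W1 (J4C.m2E.map Ex.w) [x])
      (allL (Ct.xp J4C.W1 (J4C.m2E.map Ex.w) [x]) fun x => Nat.blt x 11) = true := by
    decide +kernel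
  rcases Nat.lt_succ_iff_lt_or_eq.1 (show x < 21 by clear h1; revert x; decide) with h3 | rfl
  · rw [Y_K _ (h2 x h3)] at h1 ⊢
    exact h _ (mem_H0.1 h1)
  · exact Y20 ▸ hT

theorem H0_eq : H0 = Subgroup.closure (ι '' B0 ∪ {T}) :=
  le_antisymm (H0_le (fun b hb => Subgroup.subset_closure (Or.inl ⟨b, hb, rfl⟩)) (Subgroup.subset_closure (Or.inr rfl)))
    ((Subgroup.closure_le _).2 (by
      rintro _ (⟨b, hb, rfl⟩ | rfl)
      exacts [mem_H0.2 hb, T_mem]))

theorem ord_z0 : orderOf z0 = 2 := by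
  rw [← Y0, Y, ← J4C.ord]; exact (MulAut.conj (ι cu)⁻¹).orderOf_eq _

end Cfsg.Agent.J4T
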