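import Cfsg.Agent.J4T.Y

/-! Step B, end: the automiser of `V` is the fixed group `Ms` (`Bt.autom`), orbits on `V`, uniqueness of `V`. -/

set_option autoImplicit false

namespace Cfsg.Agent.J4T
open Cfsg.Agent.Comp Subgroup Cfsg.Agent.BG LES

def LM4 : List ℕ := [cD, cK 3, cP, cY]
def Ms : Subgroup (MulAut (XV 11)) := closure (genSet (MR 11) (LM4 ++ (List.range 12).map fun i => actE (2 ^ i)))
def mD : ℕ := 0x4a0080000002000410002500005800a14028800000020040010002141480280100002604000019910000406200008008400488000202000004400088202011110041000900690021002800600000004805000090f00000030a0000600000000c900201000490600100040860020000084000c0020002800080030001c00140030a004002000080040050100805a020010028400200008040140001802814020120901000090406014000806000020008000448020200800021800010104804210a040800020000040001020508050a01002c08000200004000103400c10000830a28000000000044a0820000000055114a2cc8620202804c4a2cc8620202804c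
theorem orbs {v : ℕ} (hv : v < 2048) (h0 : v ≠ 0) :
    v ∈ orbV LM4 1800 64 ∨ v ∈ orbV LM4 300 2 ∧ mD.testBit v = true := by
  have h1 : maskL (orbV LM4 1800 64) (mD ||| 2 ^ 0) = 2 ^ 2048 - 1 ∧ maskL (orbV LM4 300 2) 0 = mD := by decide +kernel
  rcases mem_of_mask _ _ (h1.1 ▸ show (2 ^ 2048 - 1).testBit v = true by rw [Nat.testBit_two_pow_sub_one]; exact decide_eq_true hv) with h | h
  · rw [Nat.testBit_or, Nat.testBit_two_pow, decide_eq_false h0.symm, Bool.or_false] at h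
    exact Or.inr ⟨(mem_of_mask _ _ (h1.2 ▸ h)).resolve_left (by simp), h⟩
  · exact Or.inl h
theorem noD {v w : ℕ} (hv : v < 2048) (hw : w < 2048) (h : ∀ u ∈ [v, w, 2 ^^^ v, 2 ^^^ w, v ^^^ w, 2 ^^^ (v ^^^ w)],
    mD.testBit u = true) : False := by
  have h1 : allLt 32 (fun a => allLt 64 fun b => force (Nat.add (Nat.mul 64 a) b) fun v =>
    bor (not (band (tb mD v) (tb mD (Nat.xor 2 v)))) (allLt 32 fun a => allLt 64 fun b =>
      force (Nat.add (Nat.mul 64 a) b) fun w => not (band (band (tb mD w) (tb mD (Nat.xor 2 w)))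
        (band (tb mD (Nat.xor v w)) (tb mD (Nat.xor 2 (Nat.xor v w))))))) = true := by decide +kernel
  have e : ∀ v, Nat.add (Nat.mul 64 (v / 64)) (v % 64) = v := fun v => Nat.div_add_mod v 64
  have e2 : ∀ a b, Nat.xor a b = a ^^^ b := fun _ _ => rfl
  simp only [List.forall_mem_cons] at h
  have h2 := allLt_iff.1 (allLt_iff.1 h1 (v / 64) (by omega)) (v % 64) (by omega)
  simp only [force_eq, e, e2, tb_eq, h, band_eq, bor_eq, Bool.and_self, Bool.not_true, Bool.false_or, allLt_iff] at h2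
  have h3 := h2 (w / 64) (by omega) (w % 64) (by omega)
  simp only [e, h, Bool.and_self, Bool.not_true] at h3
  exact Bool.false_ne_true h3

theorem card_le_len {H : Type*} [Group H] [Finite H] {W : Subgroup H} (l : List H) (h : ∀ w ∈ W, w ∈ l) :
    Nat.card W ≤ l.length := by
  classical
  exact ((Set.ncard_le_ncard (t := l.toFinset) fun w hw => by simpa using h w hw).trans_eq
    (Set.ncard_coe_finset _)).trans l.toFinset_card_le

variable {G : Type*} [Group G] [Finite G] {z p : G} {θ : ℕ → G} {μ : centralizer ({z} : Set G) →* MulAut (XV 12)}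
  {x : ℕ → G} {ν : XV 11 →* G} {f : ℕ}

/-- elements acting on `V` through `K`. -/
def actIn (ν : XV 11 →* G) (K : Subgroup (MulAut (XV 11))) : Subgroup G where
  carrier := {g | ∃ a ∈ K, ∀ v, g * ν v * g⁻¹ = ν (a v)}
  mul_mem' := fun ⟨a, b, c⟩ ⟨a', b', c'⟩ => ⟨_, mul_mem b b', fun v => by rw [MulAut.mul_apply, ← c, ← c']; group⟩
  one_mem' := ⟨1, one_mem _, by simp⟩
  inv_mem' := fun ⟨a, b, c⟩ => ⟨_, inv_mem b, fun v => by
    have := c (a⁻¹ v); rw [← MulAut.mul_apply, mul_inv_cancel, MulAut.one_apply] at this; rw [← this]; group⟩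

theorem actIn_norm {K : Subgroup (MulAut (XV 11))} : actIn ν K ≤ normalizer (ν.range : Set G) :=
  fun _ ⟨_, _, h⟩ => mem_normalizer_fintype fun _ ⟨v, e⟩ => ⟨_, e ▸ (h v).symm⟩

/-- the Sylow `2`-subgroup. -/
def TT (μ : centralizer ({z} : Set G) →* MulAut (XV 12)) : Subgroup G := (Ts.comap μ).map (Subgroup.subtype _)

namespace Bt
theorem card_TT (B : Bt z p θ μ x ν f) : Nat.card (TT μ) = 2 ^ 21 := by
  have h1 := (Ts.comap μ).card_mul_index
  have h2 := (Ts.subgroupOf Xs).card_mul_index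
  rw [Nat.card_congr (subgroupOfEquivOfLe (Ts_le.trans Bs_le)).toEquiv, card_Ts, B.toSt.card_Xs] at h2
  rw [index_comap, B.range, B.cardH, show Ts.relIndex Xs = 10395 by unfold relIndex; omega] at h1
  rw [TT, card_map_of_injective (subtype_injective _)]; omega

theorem TT_le (B : Bt z p θ μ x ν f) : TT μ ≤ normalizer (ν.range : Set G) := by
  rintro _ ⟨g, hg, rfl⟩
  obtain ⟨k, hk, h1, h2⟩ := B.exists_word (Ts_le hg)
  obtain ⟨e, he, h5⟩ := (B.core _).1 ((B.ker (g * ⟨k, h1⟩⁻¹)).1 (by rw [map_mul, map_inv, h2, mul_inv_cancel]))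
  have : k ∈ normalizer (ν.range : Set G) := (closure_le _).2 (by rintro _ ⟨i, rfl⟩; exact (B.hv i).norm) hk
  exact (mul_mem_cancel_right (inv_mem this)).1 (show (g * ⟨k, h1⟩⁻¹).1 ∈ _ from h5 ▸ (B.VR_E' he).norm)

theorem conj_V (B : Bt z p θ μ x ν f) {K A : Subgroup G} (hT : TT μ ≤ K) (hK : ¬ 2 ^ 22 ∣ Nat.card K) (hA : A ≤ K)
    (h2 : ∀ a ∈ A, a * a = 1) (hc : Nat.card A = 2 ^ 11) : ∃ g ∈ K, A.map (MulAut.conj g).toMonoidHom = ν.range := by
  obtain ⟨g, hg, h⟩ := exists_conj_le_sylow Nat.prime_two hT hA B.card_TT rfl hK (IsPGroup.of_card hc)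
  refine ⟨g, hg, B.uniq' ?_ ?_ (by rw [card_map_conj, hc]) ?_⟩
  · rintro _ ⟨a, ha, rfl⟩; exact map_subtype_le _ (h a ha)
  · rintro _ ⟨a, ha, rfl⟩; rw [← map_mul, h2 a ha, map_one]
  · rintro b ⟨a, ha, e⟩
    obtain ⟨c, hc, e'⟩ := h a ha
    exact (Subtype.ext (e'.trans e) : c = b) ▸ hc

variable (B : Bt z p θ μ x ν 3) (hy : ∃ y, VR ν cY y)
include B hy

theorem exVR : ∀ c ∈ LM4 ++ (List.range 12).map fun i => actE (2 ^ i), ∃ g, VR ν c g := fun c hc => by
  rcases List.mem_append.1 hc with h | h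
  · simp only [LM4, List.mem_cons, List.not_mem_nil, or_false] at h
    rcases h with rfl | rfl | rfl | rfl
    exacts [⟨_, B.hv 0⟩, ⟨_, B.hv 1⟩, ⟨_, B.hv 2⟩, hy]
  · obtain ⟨i, hi, rfl⟩ := List.mem_map.1 h
    exact ⟨_, B.VR_E (pow_lt12 (List.mem_range.1 hi))⟩

theorem real {a : MulAut (XV 11)} (ha : a ∈ Ms) : ∃ n, ∀ v, n * ν v * n⁻¹ = ν (a v) := by
  induction ha using closure_induction with
  | mem a h =>
    obtain ⟨c, hc, h⟩ := h
    obtain ⟨g, b, h1, h2⟩ := B.exVR hy c hc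
    exact ⟨g, h1.func h ▸ h2⟩
  | one => exact ⟨1, by simp⟩
  | mul a b _ _ h h' =>
    obtain ⟨n, h⟩ := h; obtain ⟨n', h'⟩ := h'
    exact ⟨n * n', fun v => by rw [MulAut.mul_apply, ← h, ← h']; group⟩
  | inv a _ h =>
    obtain ⟨n, h⟩ := h
    exact ⟨n⁻¹, fun v => by
      have := h (a⁻¹ v); rw [← MulAut.mul_apply, mul_inv_cancel, MulAut.one_apply] at this; rw [← this]; group⟩

theorem orbN {v : XV 11} (h : v ≠ 1) : ∃ n ∈ actIn ν Ms, n * z * n⁻¹ = ν v ∨ n * θ x0 * n⁻¹ = ν v ∧ mD.testBit v.val := by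
  have hK : CodesIn (MR 11) LM4 Ms := fun c hc =>
    let ⟨_, a, h, _⟩ := B.exVR hy c (List.mem_append_left _ hc); ⟨a, subset_closure ⟨c, List.mem_append_left _ hc, h⟩, h⟩
  rcases orbs v.lt (fun e => h (XV.ext e)) with h | h
  · obtain ⟨a, ha, e⟩ := orbV_reach hK (by norm_num) h
    obtain ⟨n, hn⟩ := B.real hy ha
    exact ⟨n, ⟨a, ha, hn⟩, Or.inl (by rw [← B.νz, hn, XV.ext e])⟩
  · obtain ⟨a, ha, e⟩ := orbV_reach hK (by norm_num) h.1
    obtain ⟨n, hn⟩ := B.real hy ha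
    exact ⟨n, ⟨a, ha, hn⟩, Or.inr ⟨by rw [← B.νx, hn, XV.ext e], h.2⟩⟩

theorem autom : normalizer (ν.range : Set G) ≤ actIn ν Ms := fun g hg => by
  have k : ∀ c ∈ LM4 ++ (List.range 12).map fun i => actE (2 ^ i), ∀ g, VR ν c g → g ∈ actIn ν Ms :=
    fun c hc g ⟨a, h1, h2⟩ => ⟨a, subset_closure ⟨c, hc, h1⟩, h2⟩
  have k1 : ∀ g, VR ν one11 g → g ∈ actIn ν Ms := fun g ⟨a, h1, h2⟩ => ⟨a, isGrp11.one.func h1 ▸ one_mem _, h2⟩
  have kz : z ∈ actIn ν Ms := k1 _ (B.νz ▸ VR_V ν _)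
  obtain ⟨v, hv⟩ := (mem_normalizer_iff.1 hg z).1 ⟨_, B.νz⟩
  obtain ⟨n, hn, h | h⟩ := B.orbN hy (v := v) (by
    rintro rfl; rw [map_one, eq_comm, conj_eq_one_iff] at hv; exact B.toSt.z1 hv)
  · obtain ⟨e, he, w, hw, h1⟩ := B.norm_H (g := n⁻¹ * g) (mem_centralizer_singleton_iff.2 (by
      calc _ = n⁻¹ * (g * z * g⁻¹) * g := by group
        _ = _ := by rw [← hv, ← h]; group)) (mul_mem (inv_mem (actIn_norm hn)) hg)
    refine (mul_mem_cancel_left (inv_mem hn)).1 (h1 ▸ mul_mem ?_ ((closure_le _).2 ?_ hw))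
    · refine xind (n := 13) (P := fun e => θ e ∈ actIn ν Ms) (by rw [B.toSt.θ0]; exact one_mem _) (fun i hi => ?_)
        (fun a ha b hb h1 h2 => (mul_mem_cancel_right (pow_mem kz _)).1 (B.toSt.mul' ha hb ▸ mul_mem h1 h2)) e he
      by_cases h : i < 12
      · exact k _ (List.mem_append_right _ (List.mem_map.2 ⟨i, List.mem_range.2 h, rfl⟩)) _ (B.VR_E (pow_lt12 h))
      · obtain rfl : i = 12 := by omega
        exact (B.hz : θ (2 ^ 12) = z) ▸ kz
    · rintro _ ⟨i, rfl⟩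
      have := B.hv i
      rcases i with _ | _ | _ | i
      exacts [k cD (by simp [LM4]) _ this, k (cK 3) (by simp [LM4]) _ this, k cP (by simp [LM4]) _ this,
        k1 _ (by rcases i with _ | _ | _ | _ | i <;> exact this)]
  · exact absurd ((isConj_iff.2 ⟨g, hv.symm⟩).trans (isConj_iff.2 ⟨n, h.1⟩).symm) B.toSt.not_fused

theorem card_le_four {W : Subgroup G} (hW : W ≤ ν.range) (h : ∀ w ∈ W, ¬ IsConj z w) : Nat.card W ≤ 4 := by
  by_contra hc
  obtain ⟨⟨u, hu⟩, u1⟩ := ne_bot_iff_exists_ne_one.1 (show W ≠ ⊥ by rintro rfl; simp at hc)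
  obtain ⟨u, rfl⟩ := hW hu
  obtain ⟨n, ⟨a, -, ha⟩, h1 | ⟨h1, -⟩⟩ := B.orbN hy (v := u) (by rintro rfl; exact u1 (Subtype.ext (map_one ν)))
  · exact h _ hu (isConj_iff.2 ⟨n, h1⟩)
  have c : Nat.card (W.comap (ν.comp a.toMonoidHom)) = Nat.card W := by
    rw [← card_map_of_injective (f := ν.comp a.toMonoidHom) (B.injν.comp a.injective), map_comap_eq_self]
    rwa [MonoidHom.range_comp, MonoidHom.range_eq_top.2 a.surjective, ← MonoidHom.range_eq_map]
  have h2 : XV.mk' 11 2 ∈ W.comap (ν.comp a.toMonoidHom) := by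
    show ν (a _) ∈ W; rwa [← ha, B.νx, h1]
  have h3 : ∀ v ∈ W.comap (ν.comp a.toMonoidHom), v ≠ 1 → mD.testBit v.val := fun v hv v1 => by
    obtain ⟨m, -, e | e⟩ := B.orbN hy v1
    exacts [absurd ((isConj_iff.2 ⟨m, e⟩).trans (isConj_iff.2 ⟨n, ha v⟩)) (h _ hv), e.2]
  rw [← c] at hc
  generalize W.comap (ν.comp a.toMonoidHom) = U at *
  set s := XV.mk' 11 2
  obtain ⟨v, hv, v1⟩ : ∃ v ∈ U, v ∉ [1, s] := by by_contra! k; exact hc ((card_le_len _ k).trans (by simp))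
  obtain ⟨w, hw, w1⟩ : ∃ w ∈ U, w ∉ [1, s, v, s * v] := by by_contra! k; exact hc (card_le_len _ k)
  simp only [List.mem_cons, List.not_mem_nil, or_false, not_or] at v1 w1
  have i : ∀ a b : XV 11, b ≠ a → a * b ≠ 1 := fun a b h e => h (eq_inv_of_mul_eq_one_right e)
  refine noD v.lt w.lt ?_
  simp only [List.forall_mem_cons]
  exact ⟨h3 _ hv v1.1, h3 _ hw w1.1, h3 _ (mul_mem h2 hv) (i _ _ v1.2), h3 _ (mul_mem h2 hw) (i _ _ w1.2.1),
    h3 _ (mul_mem hv hw) (i _ _ w1.2.2.1), h3 _ (mul_mem h2 (mul_mem hv hw)) (mul_assoc s v w ▸ i _ _ w1.2.2.2),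
    fun _ h => nomatch h⟩
end Bt

end Cfsg.Agent.J4T
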