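import Cfsg.Agent.J4T.Hyp
import Cfsg.Agent.J4T.AutM22
import Cfsg.Agent.S0051
import Cfsg.Agent.S1265

/-! Reduction of the other `J₄` centraliser hypotheses to `Hyp` (`hyp_of`, `hyp_of_setting` for S5585,
`hyp_of_index_two` for S1670 and S1646). -/

set_option autoImplicit false

namespace Cfsg.Agent.J4T
open Subgroup Cfsg.Spor Cfsg.Agent.LES
open scoped commutatorElement

theorem index_dvd_two (L : Subgroup (MulAut M22)) [L.Normal] (h : L ≠ ⊥) : L.index ∣ 2 := by
  refine (index_dvd_of_le (show Inn M22 ≤ L from ?_)).trans (dvd_of_eq S2062.result)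
  rintro _ ⟨y, rfl⟩
  refine ((Golay.simple_M22.eq_bot_or_eq_top_of_normal (L.comap MulAut.conj) inferInstance).resolve_left
    fun e => h (eq_bot_iff.2 fun a ha => MulEquiv.ext fun x => mul_inv_eq_one.1 (e.le ?_))).ge (mem_top y)
  have := L.mul_mem ha (‹L.Normal›.conj_mem _ (L.inv_mem ha) (MulAut.conj x))
  rwa [show a * (MulAut.conj x * a⁻¹ * (MulAut.conj x)⁻¹) = MulAut.conj (a x * x⁻¹) by ext; simp [mul_assoc]] at this

section
variable {C : Type*} [Group C] [Finite C] {Q N : Subgroup C} (hQN : Q ≤ N) (hN : Nat.card N = 3 * Nat.card Q)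
include hQN hN

theorem relIndex_three : Q.relIndex N = 3 := by
  have := (Q.subgroupOf N).index_mul_card
  rwa [Nat.card_congr (subgroupOfEquivOfLe hQN).toEquiv, hN, mul_left_inj' Nat.card_pos.ne'] at this

theorem inf_eq_of_three {A : Subgroup C} (hQA : Q ≤ A) (hA : ¬ N ≤ A) : A ⊓ N = Q := by
  have := relIndex_mul_relIndex Q (A ⊓ N) N (le_inf hQA hQN) inf_le_right
  rw [relIndex_three hQN hN, inf_relIndex_right] at this
  refine le_antisymm (relIndex_eq_one.1 ?_) (le_inf hQA hQN)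
  rcases (Nat.dvd_prime Nat.prime_three).1 (Dvd.intro_left _ this) with e | e
  · exact absurd (relIndex_eq_one.1 e) hA
  · rw [e] at this; omega

variable [Q.Normal] [N.Normal]

theorem split_three {A : Subgroup C} (hQA : Q ≤ A) (hA : ¬ N ≤ A) (h : ¬ 9 ∣ A.index ∨ ¬ 3 ∣ (N ⊔ A).index) :
    ∃ K : Subgroup C, K ⊓ N = Q ∧ K ⊔ N = ⊤ := by
  have h1 := inf_eq_of_three hQN hN hQA hA
  have h2 : ¬ 3 ∣ (N ⊔ A).index := h.elim (fun h e => h (by
    have := (relIndex_mul_index hQA).trans (relIndex_mul_index hQN).symm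
    rw [relIndex_three hQN hN, ← relIndex_mul_index (le_sup_left : N ≤ N ⊔ A), relIndex_sup_left,
      ← inf_relIndex_left A N, h1, mul_left_comm, mul_right_inj' (show Q.relIndex A ≠ 0 from index_ne_zero_of_finite)] at this
    exact this ▸ mul_dvd_mul_left 3 e)) id
  have h3 : Nat.card (N.map (QuotientGroup.mk' Q)) = 3 := by
    rw [← relIndex_ker, QuotientGroup.ker_mk', relIndex_three hQN hN]
  have hs := QuotientGroup.mk'_surjective Q
  have := ‹N.Normal›.map _ hs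
  have : Fact (Nat.Prime 3) := ⟨Nat.prime_three⟩
  have := isCyclic_of_prime_card h3
  have h4 : (N.map (QuotientGroup.mk' Q)).comap (QuotientGroup.mk' Q) = N :=
    comap_map_eq_self (by rwa [QuotientGroup.ker_mk'])
  obtain ⟨H, hH⟩ := S0051.result (N.map (QuotientGroup.mk' Q)) ((N ⊔ A).map (QuotientGroup.mk' Q)) (map_mono le_sup_left)
    (by rwa [h3, index_map_eq _ hs (by rw [QuotientGroup.ker_mk']; exact hQN.trans le_sup_left),
      Nat.prime_three.coprime_iff_not_dvd]) (A.map (QuotientGroup.mk' Q)) (map_mono le_sup_right) (eq_bot_iff.2 (by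
      rintro _ ⟨⟨a, ha, rfl⟩, hn⟩
      exact (QuotientGroup.eq_one_iff a).2 (h1.le ⟨ha, h4.le hn⟩))) (Subgroup.map_sup ..).symm
  refine ⟨H.comap (QuotientGroup.mk' Q), ?_, ?_⟩
  · rw [← h4, ← comap_inf, hH.symm.disjoint.eq_bot, MonoidHom.comap_bot, QuotientGroup.ker_mk']
  · rw [← h4, comap_sup_eq _ _ _ hs, hH.symm.sup_eq_top, comap_top]

theorem act_three (hc : Nat.card Q = 2 ^ 13) (hns : ∀ K : Subgroup C, K ⊓ N = Q → K ⊔ N = ⊤ → False)
    (e : C ⧸ N ≃* MulAut M22) {p : C} (hp : p ∈ N) {W : Type*} [Group W] [Finite W] (ρ : C →* MulAut W) (hQ : Q ≤ ρ.ker)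
    (hp1 : ∀ w, ρ p w = w → w = 1) {m : ℕ} (hm : Nat.card W = 2 ^ m) (h0 : m ≠ 0) (h11 : m ≤ 11) : False := by
  let := MulDistribMulAction.compHom W ρ
  have h9 : 9 ∣ 2 ^ m - 1 := by
    let S : SubMulAction C W := ⟨{1}ᶜ, fun c w hw e => hw ((smul_eq_iff_eq_inv_smul c).1 e |>.trans (smul_one _))⟩
    have := Fintype.ofFinite (MulAction.orbitRel.Quotient C S)
    rw [← hm, ← Set.ncard_singleton (1 : W), ← Set.ncard_compl, ← Nat.card_coe_set_eq]
    change 9 ∣ Nat.card S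
    rw [Nat.card_congr (MulAction.selfEquivSigmaOrbitsQuotientStabilizer C S), Nat.card_sigma]
    refine Finset.dvd_sum fun w _ => by_contra fun h => ?_
    obtain ⟨K, h⟩ := split_three hQN hN (A := MulAction.stabilizer C w.out)
      (fun q hq => Subtype.ext (DFunLike.congr_fun (hQ hq) _)) (fun e => w.out.2 (hp1 _ (congrArg Subtype.val (e hp))))
      (.inl h)
    exact hns K h.1 h.2
  obtain rfl : m = 6 := by clear * - h9 h0 h11; interval_cases m <;> omega
  have : Fact (Nat.Prime 11) := ⟨by decide⟩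
  obtain ⟨x, hx⟩ := exists_prime_orderOf_dvd_card' (G := C) 11 (by
    rw [card_eq_card_quotient_mul_card_subgroup N, Nat.card_congr e.toEquiv, card_autM22]
    exact dvd_mul_of_dvd_left (by norm_num) _)
  have h7 : x ∈ ρ.ker := by
    have h7 := (IsPGroup.of_card (p := 11) (n := 1) ((Nat.card_zpowers x).trans hx)).card_modEq_card_fixedPoints W
    obtain ⟨j, h8, hj⟩ := (Nat.dvd_prime_pow Nat.prime_two).1
      (hm ▸ card_subgroup_dvd_card (FixedPoints.subgroup (zpowers x) W))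
    rw [hm, show Nat.card (MulAction.fixedPoints _ _) = _ from hj] at h7
    have : FixedPoints.subgroup (zpowers x) W = ⊤ := eq_top_of_card_eq _ (by
      rw [hj, hm]; clear * - h7 h8; interval_cases j <;> simp_all [Nat.ModEq])
    exact MulEquiv.ext fun w => this.ge (mem_top w) ⟨x, mem_zpowers x⟩
  let φ := e.toMonoidHom.comp (QuotientGroup.mk' N)
  have hφ : Function.Surjective φ := e.surjective.comp (QuotientGroup.mk'_surjective N)
  have h8 : φ.ker = N := by ext; simp [φ]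
  have := (ρ.normal_ker).map φ hφ
  have h10 := index_dvd_two (ρ.ker.map φ) fun h => by
    have := orderOf_dvd_natCard (⟨x, h8.le ((Subgroup.map_eq_bot_iff _).1 h h7)⟩ : N)
    rw [orderOf_mk, hx, hN, hc] at this
    norm_num at this
  rw [index_map, φ.range_eq_top.2 hφ, index_top, mul_one, h8, sup_comm] at h10
  obtain ⟨K, h⟩ := split_three hQN hN hQ (fun h => by
    have : Subsingleton W := ⟨fun a b => (hp1 a (DFunLike.congr_fun (h hp) a)).trans
      (hp1 b (DFunLike.congr_fun (h hp) b)).symm⟩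
    simp at hm) (.inr fun h => by simpa using h.trans h10)
  exact hns K h.1 h.2

theorem fpf_three {z : C} (hz : ∀ y, Commute y z) (hQ : ES Q z) (hc : Nat.card Q = 2 ^ 13)
    (h2c : centralizer (Q : Set C) ≤ Q) (hns : ∀ K : Subgroup C, K ⊓ N = Q → K ⊔ N = ⊤ → False)
    (e : C ⧸ N ≃* MulAut M22) {p : C} (hp : p ∈ N) (h3 : orderOf p = 3) :
    Q ⊓ centralizer (zpowers p : Set C) = zpowers z := by
  have hY {x} : x ∈ Q ⊓ centralizer (zpowers p : Set C) ↔ x ∈ Q ∧ Commute x p := by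
    rw [zpowers_eq_closure, centralizer_closure]
    exact and_congr_right fun _ => mem_centralizer_singleton_iff
  have hYQ : Q ⊓ centralizer (zpowers p : Set C) ≤ Q := inf_le_left
  generalize Q ⊓ centralizer (zpowers p : Set C) = Y at hY hYQ
  have h1 {y} (hy : y ∈ Q) (e : y ^ 3 = 1) : y = 1 := by
    obtain ⟨k, hk⟩ := hQ.pg ⟨y, hy⟩
    exact (pow_eq_one_iff_of_coprime ((by norm_num : Nat.Coprime 3 2).pow_right k)).1 ⟨e, congrArg Subtype.val hk⟩
  have p3 : p ^ 3 = 1 := h3 ▸ pow_orderOf_eq_one p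
  have p1 : p ∉ Q := fun h => by simp [h1 h p3] at h3
  have hN' : N ≤ Q ⊔ zpowers p := by_contra fun h =>
    p1 ((inf_eq_of_three hQN hN le_sup_left h).le ⟨mem_sup_right (mem_zpowers p), hp⟩)
  have zY : zpowers z ≤ Y := zpowers_le.2 (hY.2 ⟨hQ.zQ, (hz p).symm⟩)
  have : Y.Normal := ⟨fun x hx c => hY.2 ⟨‹Q.Normal›.conj_mem x (hYQ hx) c, by
    have h4 : (c⁻¹ * p * c) ^ 3 = 1 := by simpa [p3] using conj_pow (a := c⁻¹) (b := p) (i := 3)
    obtain ⟨q, hq, _, ⟨k, rfl⟩, e : q * p ^ k = _⟩ := mem_sup_of_normal_left.1 (hN' (‹N.Normal›.conj_mem' p hp c))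
    have h5 : x * (q * p ^ k) * x⁻¹ = x * q * x⁻¹ * p ^ k := by
      simp only [mul_assoc, ((hY.1 hx).2.zpow_right k).inv_left.eq]
    have h6 : x * (c⁻¹ * p * c) * x⁻¹ = c⁻¹ * p * c := by
      rcases hQ.comm x (hYQ hx) q hq with e' | e' <;> rw [e', e] at h5
      · exact h5
      · rw [mul_assoc q, ← (hz _).eq, ← mul_assoc q, e] at h5
        have := congrArg (· ^ 3) h5
        simp only [conj_pow, (hz _).mul_pow, h4, mul_one, mul_inv_cancel, one_mul] at this
        exact absurd (h1 hQ.zQ this.symm) hQ.z1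
    calc c * x * c⁻¹ * p = c * (x * (c⁻¹ * p * c) * x⁻¹) * x * c⁻¹ := by group
      _ = _ := by rw [h6]; group⟩⟩
  let π := QuotientGroup.mk' Y
  have := ‹Q.Normal›.map π (QuotientGroup.mk'_surjective Y)
  let ρ : C →* MulAut (Q.map π) := MulAut.conjNormal.comp π
  have hs {c x} (hx : x ∈ Q) : ρ c ⟨π x, x, hx, rfl⟩ = ⟨π x, x, hx, rfl⟩ ↔ c * x * c⁻¹ * x⁻¹ ∈ Y := by
    rw [← QuotientGroup.eq_one_iff, Subtype.ext_iff, ← mul_inv_eq_one]; rfl
  have h4 := (Y.subgroupOf Q).index_mul_card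
  rw [Nat.card_congr (subgroupOfEquivOfLe hYQ).toEquiv, hc, show (Y.subgroupOf Q).index = Nat.card (Q.map π) by
    rw [← relIndex_ker, QuotientGroup.ker_mk']; rfl] at h4
  obtain ⟨m, -, hm⟩ := (Nat.dvd_prime_pow Nat.prime_two).1 (Dvd.intro _ h4)
  obtain ⟨k, -, hk⟩ := (Nat.dvd_prime_pow Nat.prime_two).1 (Dvd.intro_left _ h4)
  rw [hm, hk, ← pow_add, Nat.pow_right_inj one_lt_two] at h4
  by_contra hne
  have h5 : 1 < k := (Nat.pow_lt_pow_iff_right one_lt_two).1 (by
    rw [← hk, pow_one, ← hQ.z2, ← Nat.card_zpowers]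
    exact lt_of_not_ge fun h => hne (eq_of_le_of_card_ge zY h).symm)
  refine act_three hQN hN hc hns e hp ρ (fun q hq => MulEquiv.ext ?_) ?_ hm (fun e => p1 (h2c fun x hx => ?_)) (by omega)
  · rintro ⟨_, x, hx, rfl⟩
    refine (hs hx).2 (zY ?_)
    rcases hQ.comm q hq x hx with e | e <;> simp [e, (hz x).eq]
  · rintro ⟨_, x, hx, rfl⟩ h
    replace h := hY.1 ((hs hx).1 h)
    have h4 := h1 h.1 (by
      generalize hy : p * x * p⁻¹ * x⁻¹ = y at h
      have h5 : p * x = y * x * p := by rw [← hy]; group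
      have h6 (u) : p * (y * u) = y * (p * u) := by rw [← mul_assoc, ← h.2.eq, mul_assoc]
      have : p ^ 3 * x = y ^ 3 * x * p ^ 3 := by
        have h7 (u) : p * (x * u) = y * (x * (p * u)) := by rw [← mul_assoc, h5]; group
        simp only [pow_succ', pow_zero, mul_assoc, mul_one, h5, h6, h7]
      simpa [p3] using this.symm)
    exact Subtype.ext ((QuotientGroup.eq_one_iff x).2 (hY.2 ⟨hx, (mul_inv_eq_iff_eq_mul.1 (mul_inv_eq_one.1 h4)).symm⟩))
  · rw [e, pow_zero, card_eq_one, Subgroup.map_eq_bot_iff, QuotientGroup.ker_mk'] at hm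
    exact (hY.1 (hm hx)).2

end

variable {G : Type*} [Group G] [Finite G] {z : G} {Q N : Subgroup (centralizer ({z} : Set G))}
  [Q.Normal] [N.Normal] (hQN : Q ≤ N) (hN : Nat.card N = 3 * Nat.card Q)
include hQN hN

theorem hyp_of (hz : orderOf z = 2) (hQ : IsExtraspecial 2 Q) (hc : Nat.card Q = 2 ^ 13)
    (h2c : centralizer (Q : Set (centralizer ({z} : Set G))) ≤ Q)
    (hns : ∀ K : Subgroup (centralizer ({z} : Set G)), K ⊓ N = Q → K ⊔ N = ⊤ → False)
    (hA : Nonempty (centralizer ({z} : Set G) ⧸ N ≃* MulAut M22)) : ∃ P, Hyp z P := by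
  obtain ⟨e⟩ := hA
  have hi := (centralizer ({z} : Set G)).subtype_injective
  have hE : twoCoreOfCentralizer z = Q.map (Subgroup.subtype _) := by
    have h1 : pCore 2 _ ≤ N := by
      have hs := e.surjective.comp (QuotientGroup.mk'_surjective N)
      have := (Solv.instNormalPCore 2 _).map (e.toMonoidHom.comp (QuotientGroup.mk' N)) hs
      refine ((Subgroup.map_eq_bot_iff _).1 (by_contra fun h => ?_)).trans (show (e.toMonoidHom.comp (QuotientGroup.mk' N)).ker ≤ N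
        from fun x hx => by simpa using hx)
      obtain ⟨k, hk⟩ := IsPGroup.iff_card.1 ((Solv.isPGroup_pCore 2 _).map (e.toMonoidHom.comp (QuotientGroup.mk' N)))
      have := mul_dvd_mul_left (2 ^ k) (index_dvd_two _ h)
      rw [← hk, card_mul_index, card_autM22, hk, ← pow_succ] at this
      exact absurd (Nat.prime_three.dvd_of_dvd_pow ((by norm_num : 3 ∣ 887040).trans this)) (by norm_num)
    refine congrArg _ ((inf_eq_left.2 h1).symm.trans (inf_eq_of_three hQN hN (Solv.le_pCore hQ.1.1) fun h => ?_))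
    obtain ⟨k, hk⟩ := IsPGroup.iff_card.1 ((Solv.isPGroup_pCore 2 _).to_le h)
    exact absurd (Nat.prime_three.dvd_of_dvd_pow (hk ▸ Dvd.intro _ hN.symm)) (by norm_num)
  have : Fact (Nat.Prime 3) := ⟨Nat.prime_three⟩
  obtain ⟨⟨p, hp⟩, h3⟩ := exists_prime_orderOf_dvd_card' (G := N) 3 (Dvd.intro _ hN.symm)
  rw [orderOf_mk] at h3
  let z' : centralizer ({z} : Set G) := ⟨z, mem_centralizer_singleton_iff.2 rfl⟩
  have h1 (y) : Commute y z' := Subtype.ext (mem_centralizer_singleton_iff.1 y.2)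
  have h2 := fpf_three hQN hN h1 (ES.of_mem hQ (h2c fun y _ => (h1 y).eq)
    (fun e => by simp [show z = 1 from congrArg Subtype.val e] at hz)
    fun y _ => mem_centralizer_singleton_iff.2 (h1 y).eq) hc h2c hns e hp h3
  have h4 : (N.map (Subgroup.subtype _)).subgroupOf _ = N := comap_map_eq_self_of_injective hi N
  refine ⟨zpowers p.1, hz, hE ▸ PGrp.ES_of_mulEquiv hQ (Q.equivMapOfInjective _ hi), ?_, ?_,
    ⟨N.map (Subgroup.subtype _), hE ▸ map_mono hQN, map_subtype_le _, ?_, ?_, h4.symm ▸ ⟨‹_›, ⟨e⟩⟩,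
    zpowers_le.2 ⟨p, hp, rfl⟩⟩, ?_, ?_⟩
  · rw [hE, card_map_of_injective hi, hc]
  · exact hE ▸ fun y hy => ⟨⟨y, hy.1⟩, h2c fun x hx => Subtype.ext (hy.2 x ⟨x, hx, rfl⟩), rfl⟩
  · exact (normal_subgroupOf_iff_le_normalizer (map_subtype_le _)).1 (h4.symm ▸ ‹_›)
  · rw [hE, card_map_of_injective hi, card_map_of_injective hi, hN]
  · rw [Nat.card_zpowers, orderOf_coe, h3]
  · refine le_antisymm ?_ (zpowers_le.2 ⟨hE ▸ ⟨z', h2c fun y _ => (h1 y).eq, rfl⟩, ?_⟩)
    · rw [hE]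
      rintro _ ⟨⟨y, hy, rfl⟩, h⟩
      obtain ⟨k, rfl⟩ := h2.le ⟨hy, by rintro _ ⟨k, rfl⟩; exact Subtype.ext (h _ ⟨k, rfl⟩)⟩
      exact ⟨k, rfl⟩
    · rintro _ ⟨k, rfl⟩
      exact congrArg Subtype.val (h1 (p ^ k)).eq

/-- The hypotheses of S5585. -/
theorem hyp_of_setting (hS : IsExtraspecialCentralizerSetting z Q 6)
    (hns : ∀ K : Subgroup (centralizer ({z} : Set G)), K ⊓ N = Q → K ⊔ N = ⊤ → False)
    (hA : Nonempty (centralizer ({z} : Set G) ⧸ N ≃* MulAut M22)) : ∃ P, Hyp z P :=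
  hyp_of hQN hN hS.1 hS.2.2.1 hS.2.2.2.1 (hS.2.1 ▸ S1265.result) hns hA

/-- The hypotheses of S1670 and S1646. -/
theorem hyp_of_index_two (hz : orderOf z = 2) {M : Subgroup (centralizer ({z} : Set G))} [M.Normal] (hNM : N ≤ M)
    (hM : M.index = 2) (hQ : IsExtraspecial 2 Q) (hc : Nat.card Q = 2 ^ 13) (hcent : ⁅M, N⁆ ≤ Q) (hperf : M ≤ ⁅M, M⁆ ⊔ Q)
    (h2c : centralizer (Q : Set (centralizer ({z} : Set G))) ≤ Q)
    (hout : ∀ c : centralizer ({z} : Set G), (∀ m ∈ M, c * m * c⁻¹ * m⁻¹ ∈ N) → c ∈ M)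
    (h22 : IsoM22 (M ⧸ N.subgroupOf M)) : ∃ P, Hyp z P := by
  refine hyp_of hQN hN hz hQ hc h2c (fun K h1 h2 => ?_) ?_
  · have h3 : ⁅M, M⁆ ≤ K := commutator_le.2 fun a ha b hb => by
      obtain ⟨k, hk, n, hn, rfl⟩ := mem_sup_of_normal_right.1 (h2.ge (mem_top a))
      obtain ⟨l, hl, m, hm, rfl⟩ := mem_sup_of_normal_right.1 (h2.ge (mem_top b))
      have h4 {x y} (hx : x ∈ M) (hy : y ∈ N) : ⁅x, y⁆ ∈ K := (h1.ge (hcent (commutator_mem_commutator hx hy))).1
      rw [show ⁅k * n, l * m⁆ = k * ⁅l * m, n⁆⁻¹ * l * ⁅k⁻¹, m⁆⁻¹ * k⁻¹ * l⁻¹ by simp only [commutatorElement_def]; group]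
      exact mul_mem (mul_mem (mul_mem (mul_mem (mul_mem hk (inv_mem (h4 hb hn))) hl) (inv_mem (h4 (inv_mem
        ((mul_mem_cancel_right (hNM hn)).1 ha)) hm))) (inv_mem hk)) (inv_mem hl)
    have := h1.symm.trans (inf_eq_right.2 (hNM.trans (hperf.trans (sup_le h3 (h1.ge.trans inf_le_left)))))
    rw [this] at hN
    have := Nat.card_pos (α := N)
    omega
  · have hs := QuotientGroup.mk'_surjective N
    have := ‹M.Normal›.map _ hs
    obtain ⟨e⟩ : IsoM22 (M.map (QuotientGroup.mk' N)) := h22.elim fun e => ⟨((QuotientGroup.quotientKerEquivOfSurjective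
      _ ((QuotientGroup.mk' N).subgroupMap_surjective M)).symm.trans (QuotientGroup.quotientMulEquivOfEq (by
      ext x; simp [Subtype.ext_iff, mem_subgroupOf]))).trans e⟩
    refine ⟨.ofBijective ((MulAut.congr e).toMonoidHom.comp MulAut.conjNormal) ((Nat.bijective_iff_injective_and_card _).2
      ⟨(MulAut.congr e).injective.comp ((injective_iff_map_eq_one _).2 fun c hc => ?_), ?_⟩)⟩
    · obtain ⟨c, rfl⟩ := hs c
      have h1 := hout c fun m hm => (QuotientGroup.eq_one_iff _).1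
        (mul_inv_eq_one.2 (congrArg Subtype.val (DFunLike.congr_fun hc ⟨_, m, hm, rfl⟩)) :)
      let x := e ⟨_, c, h1, rfl⟩
      refine congrArg Subtype.val (e.map_eq_one_iff.1 (Subtype.ext (congrArg Subtype.val
        (conjD_injective (a₁ := ⟨x, M22_le_D22 x.2⟩) (a₂ := 1) ?_) :)))
      refine (MulEquiv.ext fun y => ?_).trans (map_one _).symm
      obtain ⟨y, rfl⟩ := e.surjective y
      exact show x * e y * x⁻¹ = e y by
        rw [← map_inv, ← map_mul, ← map_mul]; exact congrArg e (DFunLike.congr_fun hc y)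
    · rw [← (M.map (QuotientGroup.mk' N)).index_mul_card, index_map_eq _ hs (by rwa [QuotientGroup.ker_mk']), hM,
        Nat.card_congr e.toEquiv, Golay.card_M22, card_autM22]

end Cfsg.Agent.J4T
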