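import Cfsg.Agent.J4T.Bits
import Cfsg.Agent.LES.Holo

/-! The group `XV n` (numbers `< 2^n` under xor), codes `MR n c g` of its automorphisms (`n ≤ 12`), the isometry group
`OQ` of the quadratic form `bt v v` on `XV 12`, codes `IR` of isometries (`IsGrp IR mulM invM one12`), the scalar `wA`,
the extraspecial multiplication `emul`, and the identity behind `ell`. -/

set_option autoImplicit false

namespace Cfsg.Agent.J4T
open Cfsg.Agent.Comp

@[ext] structure XV (n : ℕ) where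
  val : ℕ
  lt : val < 2 ^ n

namespace XV
variable {n : ℕ}
instance instCommGroup : CommGroup (XV n) where
  mul a b := ⟨a.val ^^^ b.val, Nat.xor_lt_two_pow a.lt b.lt⟩
  one := ⟨0, Nat.two_pow_pos n⟩
  inv a := a
  mul_assoc a b c := XV.ext (Nat.xor_assoc ..)
  one_mul a := XV.ext (Nat.zero_xor _)
  mul_one a := XV.ext (Nat.xor_zero _)
  inv_mul_cancel a := XV.ext (Nat.xor_self _)
  mul_comm a b := XV.ext (Nat.xor_comm ..)
@[simp] theorem mul_val (a b : XV n) : (a * b).val = a.val ^^^ b.val := rfl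
@[simp] theorem one_val : (1 : XV n).val = 0 := rfl
@[simp] theorem inv_eq (a : XV n) : a⁻¹ = a := rfl
def equivFin : XV n ≃ Fin (2 ^ n) := ⟨fun a => ⟨a.val, a.lt⟩, fun a => ⟨a.1, a.2⟩, fun _ => rfl, fun _ => rfl⟩
instance instFinite : Finite (XV n) := Finite.of_equiv _ equivFin.symm
theorem card : Nat.card (XV n) = 2 ^ n := by rw [Nat.card_congr equivFin]; simp
theorem sq (a : XV n) : a ^ 2 = 1 := by rw [pow_two]; exact XV.ext (Nat.xor_self _)
/-- the vector with code `v` (junk `1` if too large). -/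
def mk' (n v : ℕ) : XV n := if h : v < 2 ^ n then ⟨v, h⟩ else 1
theorem mk'_val {v : ℕ} (h : v < 2 ^ n) : (mk' n v).val = v := by rw [mk', dif_pos h]
@[simp] theorem mk'_self (a : XV n) : mk' n a.val = a := by rw [mk', dif_pos a.lt]
end XV

instance instFiniteAut (n : ℕ) : Finite (MulAut (XV n)) :=
  Finite.of_injective (fun g : MulAut (XV n) => (g : XV n → XV n)) DFunLike.coe_injective

theorem card_aut (n : ℕ) : Nat.card (MulAut (XV n)) = ∏ i : Fin n, (2 ^ n - 2 ^ (i : ℕ)) := by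
  obtain ⟨e⟩ := LES.aut_GL'' (p := 2) (XV.sq (n := n)) XV.card
  rw [Nat.card_congr e.toEquiv, Matrix.card_GL_field]; simp

/-- `c` is the matrix of `g`. -/
def MR (n c : ℕ) (g : MulAut (XV n)) : Prop := c < 2 ^ (12 * n) ∧ ∀ v : XV n, (g v).val = app c v.val

section
variable {n : ℕ} {a b c : ℕ} {g h : MulAut (XV n)}

theorem lt4096 (hn : n ≤ 12) (v : XV n) : v.val < 4096 := v.lt.trans_le (Nat.pow_le_pow_right two_pos hn)

theorem MR.mul (hn : n ≤ 12) (ha : MR n a g) (hb : MR n b h) : MR n (mulM a b) (g * h) :=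
  ⟨mulM_lt a hb.1, fun v => by rw [app_mulM _ _ (lt4096 hn v), MulAut.mul_apply, ha.2, hb.2]⟩

theorem MR.one (hn : n ≤ 12) : MR n (oneN n) 1 :=
  ⟨pack_lt fun j hj => Nat.pow_lt_pow_right (n := 12) one_lt_two (by omega), fun v => (app_oneN hn _ v.lt).symm⟩

theorem MR.func (ha : MR n a g) (hb : MR n a h) : g = h :=
  MulEquiv.ext fun v => XV.ext (by rw [ha.2, hb.2])

theorem MR.col_eq (hn : n ≤ 12) (ha : MR n a g) {i : ℕ} (hi : i < n) :
    col a i = (g ⟨2 ^ i, Nat.pow_lt_pow_right one_lt_two hi⟩).val := by rw [ha.2, app_pow _ (by omega)]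

theorem MR.canon (hn : n ≤ 12) (ha : MR n a g) (hb : MR n b g) : a = b :=
  col_ext ha.1 hb.1 fun i hi => by rw [ha.col_eq hn hi, hb.col_eq hn hi]

theorem isCanon_MR (hn : n ≤ 12) : IsCanon (MR n) := ⟨fun _ _ _ => MR.func, fun _ _ _ => MR.canon hn⟩

theorem MR.mk'_eq (ha : MR n a g) {v : ℕ} (hv : v < 2 ^ n) : g (XV.mk' n v) = XV.mk' n (app a v) := by
  have := ha.2 (XV.mk' n v)
  rw [XV.mk'_val hv] at this
  rw [← this, XV.mk'_self]

theorem MR.app_lt (ha : MR n a g) {v : ℕ} (hv : v < 2 ^ n) : app a v < 2 ^ n := by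
  have := ha.2 ⟨v, hv⟩; rw [← this]; exact XV.lt _

theorem MR.of_col (hn : n ≤ 12) (hc : c < 2 ^ (12 * n))
    (h : ∀ i (hi : i < n), col c i = (g ⟨2 ^ i, Nat.pow_lt_pow_right one_lt_two hi⟩).val) : MR n c g := by
  refine ⟨hc, fun v => ?_⟩
  have := lin_ext (n := n) (f := fun v => (g (XV.mk' n v)).val) (g := app c) (fun a ha b hb => by
    rw [← XV.mul_val, ← map_mul]; congr 2; ext
    rw [XV.mul_val, XV.mk'_val ha, XV.mk'_val hb, XV.mk'_val (Nat.xor_lt_two_pow ha hb)])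
    (fun _ _ _ _ => app_xor ..) (fun i hi => by
      rw [app_pow _ (by omega), h i hi]; congr 2; ext; exact XV.mk'_val (Nat.pow_lt_pow_right one_lt_two hi)) v.val v.lt
  simpa using this

theorem exists_code (hn : n ≤ 12) (g : MulAut (XV n)) : ∃ c, MR n c g :=
  ⟨pack 12 n fun i => (g (XV.mk' n (2 ^ i))).val, MR.of_col hn (pack_lt fun _ _ => lt4096 hn _) fun i hi => by
    rw [col_pack (fun _ _ => lt4096 hn _) hi]; congr 2; ext; exact XV.mk'_val (Nat.pow_lt_pow_right one_lt_two hi)⟩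

/-- test: `c` and `ci` are mutually inverse matrices of size `n`. -/
def okA (n c ci : ℕ) : Bool := band (band (Nat.blt c (Nat.pow 2 (Nat.mul 12 n)))
  (allLt n fun i => band (Nat.blt (col c i) (Nat.pow 2 n)) (Nat.blt (col ci i) (Nat.pow 2 n))))
  (band (Nat.beq (mulM c ci) (oneN n)) (Nat.beq (mulM ci c) (oneN n)))

theorem exists_MR (hn : n ≤ 12) {ci : ℕ} (h : okA n c ci = true) : ∃ g, MR n c g := by
  simp only [okA, band_eq, Bool.and_eq_true, nblt, nbeq, allLt_iff] at h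
  obtain ⟨⟨h0, h1⟩, h2, h3⟩ := h
  have l1 := app_lt_of hn fun i hi => (h1 i hi).1
  have l2 := app_lt_of hn fun i hi => (h1 i hi).2
  exact ⟨⟨⟨fun v => ⟨app c v.val, l1 _ v.lt⟩, fun v => ⟨app ci v.val, l2 _ v.lt⟩,
    fun v => XV.ext (by simp only; rw [← app_mulM _ _ (lt4096 hn v), h3, app_oneN hn _ v.lt]),
    fun v => XV.ext (by simp only; rw [← app_mulM _ _ (lt4096 hn v), h2, app_oneN hn _ v.lt])⟩,
    fun _ _ => XV.ext (app_xor ..)⟩, h0, fun _ => rfl⟩

/-- a (non-computable) inverse on codes; use words with even letters only. -/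
noncomputable def invN (n c : ℕ) : ℕ :=
  open _root_.Classical in if h : ∃ c', ∀ g : MulAut (XV n), MR n c g → MR n c' g⁻¹ then h.choose else 0

theorem isGrp_MR (hn : n ≤ 12) : IsGrp (MR n) mulM (invN n) (oneN n) := by
  refine ⟨fun _ _ _ _ => MR.mul hn, fun a g ha => ?_, MR.one hn⟩
  have h : ∃ c', ∀ g : MulAut (XV n), MR n a g → MR n c' g⁻¹ := by
    obtain ⟨c, hc⟩ := exists_code hn g⁻¹
    exact ⟨c, fun g' hg' => by rw [hg'.func ha]; exact hc⟩
  rw [invN, dif_pos h]; exact h.choose_spec g ha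

theorem isGrp11 : IsGrp (MR 11) mulM (invN 11) one11 := one11_eq ▸ isGrp_MR (by norm_num)

/-- vectors as points. -/
def VP (n a : ℕ) (x : XV n) : Prop := a = x.val

theorem isAct_MR : IsAct (MR n) (VP n) app := fun _ _ _ _ hc ha => by
  rw [VP] at *; rw [ha, ← hc.2]; rfl
theorem VP.func ⦃a : ℕ⦄ ⦃x y : XV n⦄ (h : VP n a x) (h' : VP n a y) : x = y := XV.ext (h.symm.trans h')
theorem VP.canon ⦃a b : ℕ⦄ ⦃x : XV n⦄ (h : VP n a x) (h' : VP n b x) : a = b := h.trans h'.symm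

theorem chainM_le_card {B L : List ℕ} (hB : allL B (fun b => Nat.blt b (Nat.pow 2 n)) = true)
    {K : Subgroup (MulAut (XV n))} (hK : CodesIn (MR n) L K) (fuel : ℕ) :
    chainL app (fun a => a) fuel B L ≤ Nat.card K :=
  chainL_le_card isAct_MR VP.func VP.canon B (fun b hb => ⟨⟨b, nblt.1 (allL_iff.1 hB b hb)⟩, rfl⟩) L K hK
end

/-- the orthogonal group of `bt v v`. -/
def OQ : Subgroup (MulAut (XV 12)) where
  carrier := {g | ∀ v, bt (g v).val (g v).val = bt v.val v.val}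
  mul_mem' ha hb v := by rw [MulAut.mul_apply, ha, hb]
  one_mem' _ := rfl
  inv_mem' {g} ha v := by rw [← ha, ← MulAut.mul_apply, mul_inv_cancel]; rfl

theorem xor_cancel {a b c : ℕ} (h : a ^^^ b = a ^^^ c) : b = c := by
  simpa using congrArg (a ^^^ ·) h

theorem OQ.bf {g : MulAut (XV 12)} (h : g ∈ OQ) (v w : XV 12) : bf (g v).val (g w).val = bf v.val w.val := by
  have := h (v * w)
  rw [map_mul, XV.mul_val, XV.mul_val, q_xor, q_xor, h, h] at this
  exact xor_cancel this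

theorem MR.q {c : ℕ} {g : MulAut (XV 12)} (hc : MR 12 c g) (h : g ∈ OQ) {v : ℕ} (hv : v < 4096) :
    bt (app c v) (app c v) = bt v v := by have := h ⟨v, hv⟩; rwa [hc.2] at this
theorem MR.bf {c : ℕ} {g : MulAut (XV 12)} (hc : MR 12 c g) (h : g ∈ OQ) {v w : ℕ} (hv : v < 4096) (hw : w < 4096) :
    bf (app c v) (app c w) = bf v w := by have := OQ.bf h ⟨v, hv⟩ ⟨w, hw⟩; rwa [hc.2, hc.2] at this

theorem all4096 {f : ℕ → Bool} (h : allLt 64 (fun a => allLt 64 fun b => force (Nat.add (Nat.mul 64 a) b) f) = true)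
    {P : ℕ → Prop} (hP : ∀ v, f v = true → P v) : ∀ v < 4096, P v := fun v hv => by
  have := allLt_iff.1 (allLt_iff.1 h (v / 64) (by omega)) (v % 64) (by omega)
  rw [force_eq, show Nat.add (Nat.mul 64 (v / 64)) (v % 64) = v from Nat.div_add_mod v 64] at this
  exact hP v this

theorem pow_lt12 {i : ℕ} (hi : i < 12) : 2 ^ i < 4096 := Nat.pow_lt_pow_right (n := 12) one_lt_two hi
theorem q_pow : ∀ i < 12, bt (2 ^ i) (2 ^ i) = 1 := by decide +kernel

theorem isoB_iff {c : ℕ} {g : MulAut (XV 12)} (hc : MR 12 c g) : isoB c = true ↔ g ∈ OQ := by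
  simp only [isoB, force_eq, allLt_iff, band_eq, Bool.and_eq_true, nbeq]
  constructor
  · intro h
    have hb : ∀ v < 2 ^ 12, ∀ w < 2 ^ 12, bf (app c v) (app c w) = bf v w :=
      bilin_ext (f := fun v w => bf (app c v) (app c w)) (fun _ _ _ _ _ _ => by simp only [app_xor, bf_xor])
        (fun _ _ _ _ _ _ => by simp only [app_xor, bf_xor']) (fun _ _ _ _ _ _ => bf_xor ..)
        (fun _ _ _ _ _ _ => bf_xor' ..) fun i hi j hj => by
          simp only [app_pow _ hi, app_pow _ hj]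
          rcases lt_trichotomy i j with e | rfl | e
          · rw [bf_comm, bf_comm (2 ^ i)]; exact (h j hj).2 i e
          · rw [bf_self, bf_self]
          · exact (h i hi).2 j e
    intro v
    rw [hc.2]
    exact xind (P := fun v => bt (app c v) (app c v) = bt v v) (by simp only [app_zero])
      (fun i hi => by simp only [app_pow _ hi, (h i hi).1, q_pow i hi])
      (fun a ha b hb' e1 e2 => by simp only [app_xor, q_xor, e1, e2, hb a ha b hb'] at *) v.val v.lt
  · intro h i hi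
    refine ⟨by rw [← app_pow _ hi, hc.q h (pow_lt12 hi), q_pow i hi], fun j hj => ?_⟩
    rw [← app_pow _ hi, ← app_pow _ (hj.trans hi), hc.bf h (pow_lt12 hi) (pow_lt12 (hj.trans hi))]; rfl

theorem pack_bf : ∀ v < 4096, (pack 1 12 fun i => bf v (Nat.pow 2 (Nat.xor i 1))) = v := by
  have : allLt 64 (fun a => allLt 64 fun b => force (Nat.add (Nat.mul 64 a) b) fun v =>
    Nat.beq (pack 1 12 fun i => bf v (Nat.pow 2 (Nat.xor i 1))) v) = true := by decide +kernel
  exact all4096 this (fun _ => nbeq.1)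

/-- codes of isometries. -/
def IR (c : ℕ) (g : MulAut (XV 12)) : Prop := MR 12 c g ∧ g ∈ OQ

theorem IR.inv {c : ℕ} {g : MulAut (XV 12)} (h : IR c g) : IR (invM c) g⁻¹ := by
  have key : ∀ j (hj : j < 12), (pack 1 12 fun i => bf (Nat.pow 2 j) (col c (Nat.xor i 1))) =
      (g⁻¹ ⟨2 ^ j, pow_lt12 hj⟩).val := fun j hj => by
    rw [← pack_bf _ (g⁻¹ ⟨2 ^ j, pow_lt12 hj⟩).lt]
    refine pack_congr fun i hi => ?_
    have hi' : i ^^^ 1 < 12 := by interval_cases i <;> decide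
    have := OQ.bf h.2 (g⁻¹ ⟨2 ^ j, pow_lt12 hj⟩) ⟨2 ^ (i ^^^ 1), pow_lt12 hi'⟩
    rw [← MulAut.mul_apply, mul_inv_cancel, ← h.1.col_eq le_rfl hi'] at this
    exact this
  have hl : ∀ j < 12, (pack 1 12 fun i => bf (Nat.pow 2 j) (col c (Nat.xor i 1))) < 4096 := fun j hj => by
    rw [key j hj]; exact XV.lt _
  refine ⟨MR.of_col le_rfl ?_ fun j hj => ?_, OQ.inv_mem h.2⟩
  · unfold invM; rw [force_eq]; exact pack_lt hl
  · unfold invM; rw [force_eq, col_pack hl hj, key j hj]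

theorem isGrp_IR : IsGrp IR mulM invM one12 :=
  ⟨fun _ _ _ _ ha hb => ⟨ha.1.mul le_rfl hb.1, OQ.mul_mem ha.2 hb.2⟩, fun _ _ => IR.inv,
    one12_eq ▸ MR.one le_rfl, OQ.one_mem⟩
theorem isCanon_IR : IsCanon IR := ⟨fun _ _ _ a b => a.1.func b.1, fun _ _ _ a b => a.1.canon le_rfl b.1⟩
theorem isAct_IR : IsAct IR (VP 12) app := fun _ _ _ _ hc ha => isAct_MR hc.1 ha
theorem _root_.Cfsg.Agent.Comp.CodesIn.toMR {L : List ℕ} {K : Subgroup (MulAut (XV 12))} (h : CodesIn IR L K) :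
    CodesIn (MR 12) L K := fun c hc => let ⟨g, h1, h2⟩ := h c hc; ⟨g, h1, h2.1⟩
theorem exists_IR {g : MulAut (XV 12)} (h : g ∈ OQ) : ∃ c, IR c g := let ⟨c, hc⟩ := exists_code le_rfl g; ⟨c, hc, h⟩

/-- test: `c` is the code of an isometry. -/
def okI (c : ℕ) : Bool := band (okA 12 c (invM c)) (isoB c)
theorem exists_of_okI {c : ℕ} (h : okI c = true) : ∃ g, IR c g := by
  rw [okI, band_eq, Bool.and_eq_true] at h
  obtain ⟨g, hg⟩ := exists_MR le_rfl h.1
  exact ⟨g, hg, (isoB_iff hg).1 h.2⟩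

/-- the isometry with code `c` (junk `1`). -/
noncomputable def el (c : ℕ) : MulAut (XV 12) := open _root_.Classical in if h : ∃ g, IR c g then h.choose else 1
theorem IR_el {c : ℕ} (h : okI c = true) : IR c (el c) := by
  rw [el, dif_pos (exists_of_okI h)]; exact (exists_of_okI h).choose_spec

/-- the scalar `ω`. -/
noncomputable def wA : MulAut (XV 12) := el cW
theorem IR_wA : IR cW wA := IR_el (by decide +kernel)
theorem wA3 : wA ^ 3 = 1 := isCanon_IR.func (isGrp_IR.pow IR_wA 3) (by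
  rw [show powC mulM one12 cW 3 = one12 by decide +kernel]; exact isGrp_IR.one)

end Cfsg.Agent.J4T
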