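import Cfsg.Agent.J4T.St

/-! Stabilisers in `Xs` (given its order): `mem_Bs` (an element moving `x0` into the fixed space of `Rs` lies in `Bs`),
`mem_Rs` (the pointwise stabiliser of that space is `Rs`), `card_Bs`; the table `ut` of `uel`, coordinates `ucoord`. -/

set_option autoImplicit false

namespace Cfsg.Agent.J4T
open Cfsg.Agent.Comp Subgroup MulAction

def fixV (n : ℕ) (B : List ℕ) : Subgroup (MulAut (XV n)) := ⨅ b ∈ B, stabilizer _ (XV.mk' n b)
theorem mem_fixV {n : ℕ} {B : List ℕ} {g : MulAut (XV n)} : g ∈ fixV n B ↔ ∀ b ∈ B, g (XV.mk' n b) = XV.mk' n b := by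
  simp [fixV, mem_iInf]

theorem chainM_mul_le {n : ℕ} (fuel : ℕ) (B : List ℕ) (hB : ∀ b ∈ B, b < 2 ^ n) :
    ∀ (L : List ℕ) (K : Subgroup (MulAut (XV n))), CodesIn (MR n) L K →
      chainL app (fun a => a) fuel B L * Nat.card ↥(K ⊓ fixV n B) ≤ Nat.card K := by
  induction B with
  | nil => intro L K _; exact (one_mul _).trans_le (card_le_of_le inf_le_left)
  | cons b B ih =>
    intro L K hK
    have hx : VP n b (XV.mk' n b) := (XV.mk'_val (hB b List.mem_cons_self)).symm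
    have e : K ⊓ fixV n (b :: B) = K ⊓ stabilizer _ (XV.mk' n b) ⊓ fixV n B := by
      ext g; simp [mem_fixV, and_assoc]
    have h1 := ih (fun b hb => hB b (List.mem_cons_of_mem _ hb)) _ _ (hK.filter_fix isAct_MR VP.func hx)
    have h2 := orbitL_le_ncard (hash := fun a => a) (valid := fun _ => true) (fuel := fuel)
      isAct_MR hK hx VP.canon (Set.finite_range _)
    rw [card_eq_ncard_orbit_mul K (XV.mk' n b), e]
    exact (mul_assoc _ _ _).trans_le (Nat.mul_le_mul h2 h1)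

/-- orbit list of a vector. -/
def orbV (L : List ℕ) (fuel a : ℕ) : List ℕ := orbitL app (fun a => a) (fun _ => true) L fuel a

theorem orbV_reach {n : ℕ} {L : List ℕ} {K : Subgroup (MulAut (XV n))} (hK : CodesIn (MR n) L K) {a fuel b : ℕ}
    (ha : a < 2 ^ n) (hb : b ∈ orbV L fuel a) : ∃ g ∈ K, (g (XV.mk' n a)).val = b :=
  let ⟨g, h1, h2⟩ := orbitL_reach isAct_MR hK (show VP n a _ from (XV.mk'_val ha).symm) hb; ⟨g, h1, h2.symm⟩

theorem orbV_complete {n : ℕ} {L : List ℕ} {K : Subgroup (MulAut (XV n))} (hK : CodesIn (MR n) L K)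
    (hle : K ≤ closure (genSet (MR n) L)) {a fuel : ℕ} (ha : a < 2 ^ n) (hne : orbV L fuel a ≠ []) {g : MulAut (XV n)}
    (hg : g ∈ K) : (g (XV.mk' n a)).val ∈ orbV L fuel a := by
  obtain ⟨b, h1, h2⟩ := orbitL_complete isAct_MR hK hle (show VP n a _ from (XV.mk'_val ha).symm)
    (hash := fun a => a) (fun _ _ _ _ _ _ h1 h2 e => XV.ext (h1.symm.trans (e.trans h2))) hne hg
  exact (show b = _ from h2) ▸ h1

theorem orbV_le {n : ℕ} {L : List ℕ} {K : Subgroup (MulAut (XV n))} (hK : CodesIn (MR n) L K) {a : ℕ} (fuel : ℕ)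
    (ha : a < 2 ^ n) : lenL (orbV L fuel a) ≤ (orbit K (XV.mk' n a)).ncard :=
  orbitL_le_ncard isAct_MR hK (show VP n a _ from (XV.mk'_val ha).symm) VP.canon (Set.finite_range _)

theorem closure_IR_le (L : List ℕ) : closure (genSet IR L) ≤ closure (genSet (MR 12) L) :=
  closure_mono fun _ ⟨c, h1, h2⟩ => ⟨c, h1, h2.1⟩

/-- fixed by `Rs`. -/
def inU (v : ℕ) : Bool := allL LRg fun c => Nat.beq (app c v) v

def sgB : List ℕ := slpW mulM invM one12 [[0, 2], [0, 3, 0], [2, 10, 3], [0, 0, 2, 0, 0, 3, 0, 3, 8],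
  [0, 2, 2, 2, 1, 3], [1, 2, 1, 1, 2, 2], [0, 0, 3, 0, 3, 0, 4]] LB
theorem codes_sgB : CodesIn (MR 12) sgB Bs := (isGrp_IR.slpW _ codesB).toMR

section
variable (hX : Nat.card Xs = 2661120)
include hX

theorem card_stab : Nat.card ↥(Xs ⊓ stabilizer (MulAut (XV 12)) (XV.mk' 12 x0)) ≤ 1920 := by
  have h1 := card_eq_ncard_orbit_mul Xs (XV.mk' 12 x0)
  have h2 : 1386 ≤ _ := le_trans (by decide +kernel) (orbV_le codesX.toMR 1400 (a := x0) (by decide))
  rw [hX] at h1
  by_contra h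
  have := Nat.mul_le_mul h2 (Nat.succ_le_of_lt (not_le.1 h))
  omega

theorem stab_eq : Bs ⊓ stabilizer (MulAut (XV 12)) (XV.mk' 12 x0) = Xs ⊓ stabilizer _ (XV.mk' 12 x0) :=
  eq_of_le_of_card_ge (inf_le_inf_right _ Bs_le) ((card_stab hX).trans (le_trans (by decide +kernel)
    (chainM_le_card (B := [1, 4]) (by decide +kernel) (codes_sgB.filter_fix isAct_MR VP.func
      (show VP 12 x0 _ from (XV.mk'_val (by decide)).symm)) 500)))

theorem mem_Bs {g : MulAut (XV 12)} (hg : g ∈ Xs) (h : inU (g (XV.mk' 12 x0)).val = true) : g ∈ Bs := by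
  have h1 := orbV_complete codesX.toMR (closure_IR_le _) (a := x0) (fuel := 1400) (by decide) (by decide +kernel) hg
  have h2 : forceL (orbV LB 20 x0) (fun l => allL (orbV LX 1400 x0) fun v => force v fun v =>
    bor (not (inU v)) (memL v l)) = true := by decide +kernel
  rw [forceL_eq] at h2
  have h3 := allL_iff.1 h2 _ h1
  simp only [force_eq, h, bor_eq, Bool.not_true, Bool.false_or, memL_iff] at h3
  obtain ⟨b, hb, e⟩ := orbV_reach codesB.toMR (by decide) h3
  have : b⁻¹ * g ∈ Bs ⊓ stabilizer _ (XV.mk' 12 x0) := stab_eq hX ▸ ⟨Xs.mul_mem (Xs.inv_mem (Bs_le hb)) hg, by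
    show b⁻¹ (g _) = _
    rw [← XV.ext e]; simp⟩
  simpa using mul_mem hb this.1

theorem card_Bs : Nat.card Bs = 34560 := by
  refine le_antisymm ?_ le_card_Bs
  rw [card_eq_ncard_orbit_mul Bs (XV.mk' 12 x0), stab_eq hX, orbitL_ncard_eq (hash := fun a => a)
    (valid := fun _ => true) (fuel := 20) isAct_MR codesB.toMR (closure_IR_le _)
    (show VP 12 x0 _ from (XV.mk'_val (by decide)).symm) VP.canon
    (fun _ _ _ _ _ _ h1 h2 e => XV.ext (h1.symm.trans (e.trans h2))) (by decide +kernel),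
    show lenL (orbitL app (fun a => a) (fun _ => true) LB 20 x0) = 18 by decide +kernel]
  have := card_stab hX; omega

theorem mem_Rs {g : MulAut (XV 12)} (hg : g ∈ Xs) (h : ∀ v : XV 12, inU v.val = true → g v = v) : g ∈ Rs := by
  have hf : ∀ g : MulAut (XV 12), (∀ v : XV 12, inU v.val = true → g v = v) → g ∈ fixV 12 [1332, 3233, 110] :=
    fun g h => mem_fixV.2 fun b hb => h _ (by
      simp only [List.mem_cons, List.not_mem_nil, or_false] at hb
      rcases hb with rfl | rfl | rfl <;> rw [XV.mk'_val (by decide)] <;> decide +kernel)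
  have h1 := chainM_mul_le 20 [1332, 3233, 110] (by decide) _ _ codes_sgB
  rw [card_Bs hX, show chainL app (fun a => a) 20 [1332, 3233, 110] sgB = 2160 by decide +kernel] at h1
  have h2 : Rs ≤ Bs ⊓ fixV 12 [1332, 3233, 110] := le_inf (Rs_le.trans Ts_le) ((closure_le _).2 fun g ⟨c, hc, hg⟩ =>
    hf g fun v hv => XV.ext (by rw [hg.1.2]; exact nbeq.1 (allL_iff.1 hv c hc)))
  rw [eq_of_le_of_card_ge h2 (by rw [card_Rs]; omega)]
  refine ⟨mem_Bs hX hg ?_, hf g h⟩
  have : inU (XV.mk' 12 x0).val = true := by rw [XV.mk'_val (by decide)]; decide +kernel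
  rw [h _ this, this]
end

def ut (a : ℕ) : ℕ := get 13 8191 0xd3b5b5fe853e3d0c5ae7e5938dd60d983feb354d57d83bf3733adb4df23cbb2fcd83de9bc67292def5dffdd524bdd85c47d09225c29d3cbacf1c6c1ed273a131a8c725117ba1171c4550afb7d11fca657b78f10d9c91560f82d0b7cfdd56b99f06eccad4d394300053b1b5de843e350c1ae5e5838d5609981fea3545579839f3633a5b49f21cba2fc5839e99c662925ef1dfddd424b5d81c45d0822542993c9ace1c641e9271a121a84721115ba017144510adb7c11f4a617b58f00d9491160d82c0b74fd956999e06e4ca94d1942000 a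
theorem ut_eq : ∀ a < 128, ut a = uel a := by decide +kernel
theorem ut_lt (a : ℕ) : ut a < 8192 := get_lt (w := 13) rfl _ _
theorem ut_mul : ∀ a < 128, ∀ b < 128, emul (ut a) (ut b) = ut (a ^^^ b) := by
  have : allLt 128 (fun a => allLt 128 fun b => Nat.beq (emul (ut a) (ut b)) (ut (Nat.xor a b))) = true := by
    decide +kernel
  exact fun a ha b hb => nbeq.1 (allLt_iff.1 (allLt_iff.1 this a ha) b hb)
theorem ut_R : ∀ c ∈ LRg, ∀ a < 128, kact c (ut a) = ut a := by decide +kernel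
theorem ut_inj : ∀ a < 128, ut a = 0 → a = 0 := by decide +kernel
theorem ut_inU : ∀ a < 128, inU (ut a % 4096) = true := by decide +kernel

/-- coordinates (mod `z`) of a vector of `U`. -/
def ucoord (e : ℕ) : ℕ := pack 1 6 fun i => par (Nat.land e (nthL 0 [23, 41, 59, 10, 51, 47] i))
theorem ucoord_lt (e : ℕ) : ucoord e < 64 := pack_lt (w := 1) (k := 6) fun _ _ => par_lt _
theorem ut_of_perp : ∀ e < 4096, (∀ i < 6, bf e (ut (2 ^ i)) = 0) → ut (ucoord e) % 4096 = e :=
  all4096 (f := fun e => bor (anyLt 6 fun i => Nat.beq (bf e (ut (Nat.pow 2 i))) 1)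
    (Nat.beq (Nat.mod (ut (ucoord e)) 4096) e)) (by decide +kernel) fun e h h' => by
    simp only [bor_eq, Bool.or_eq_true, anyLt_iff, nbeq] at h
    rcases h with ⟨i, hi, h⟩ | h
    · exact absurd (h.symm.trans (h' i hi)) one_ne_zero
    · exact h
theorem ut_of_inU : ∀ e < 4096, inU e = true → ut (ucoord e) % 4096 = e :=
  all4096 (f := fun e => bor (not (inU e)) (Nat.beq (Nat.mod (ut (ucoord e)) 4096) e)) (by decide +kernel)
    fun e h h' => by simp only [bor_eq, h', Bool.not_true, Bool.false_or, nbeq] at h; exact h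

end Cfsg.Agent.J4T
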